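import Mathlib.FieldTheory.Minpoly.IsIntegrallyClosed
import Mathlib.Analysis.Complex.Polynomial.Basic
import Mathlib.Analysis.Complex.Basic
import Mathlib.Algebra.Polynomial.Reverse
import Mathlib.Algebra.Polynomial.Splits

/-!
Monic integer polynomials all of whose complex roots have absolute value `√q`.
-/

set_option autoImplicit false

universe u

open Polynomial ComplexConjugate

namespace Groth.Agent.WeilNumLib

/-- A monic integer polynomial all of whose complex roots `z` satisfy `z * conj z = q`. -/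
def IsWeilPoly (q : ℤ) (P : ℤ[X]) : Prop :=
  P.Monic ∧ ∀ z ∈ P.aroots ℂ, z * conj z = q

theorem IsWeilPoly.prod {q : ℤ} {ι : Type*} [Fintype ι] {P : ι → ℤ[X]} (h : ∀ i, IsWeilPoly q (P i)) :
    IsWeilPoly q (∏ i, P i) := by
  refine ⟨monic_prod_of_monic _ _ fun i _ => (h i).1, fun z hz => ?_⟩
  rw [mem_aroots, map_prod, Finset.prod_eq_zero_iff] at hz
  obtain ⟨i, -, hi⟩ := hz.2
  exact (h i).2 z (mem_aroots.2 ⟨(h i).1.ne_zero, hi⟩)

theorem isWeilPoly_minpoly {K : Type u} [Field K] {π : K} (hπ : IsIntegral ℤ π) {p e : ℕ}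
    (hw : ∀ z ∈ (minpoly ℤ π).aroots ℂ, ‖z‖ = Real.sqrt ((p : ℝ) ^ e)) :
    IsWeilPoly ((p : ℤ) ^ e) (minpoly ℤ π) := by
  refine ⟨minpoly.monic hπ, fun z hz => ?_⟩
  rw [Complex.mul_conj, Complex.normSq_eq_norm_sq, hw z hz, Real.sq_sqrt (by positivity)]
  push_cast
  rfl

variable {q : ℤ} {P : ℤ[X]}

/-- The complex roots are stable under conjugation. -/
theorem map_conj_aroots (P : ℤ[X]) : (P.aroots ℂ).map conj = P.aroots ℂ := by
  have := (IsAlgClosed.splits (P.map (algebraMap ℤ ℂ))).roots_map (starRingEnd ℂ)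
  rw [Polynomial.map_map, RingHom.ext_int ((starRingEnd ℂ).comp (algebraMap ℤ ℂ)) (algebraMap ℤ ℂ)] at this
  exact this.symm

theorem IsWeilPoly.eq_prod (h : IsWeilPoly q P) :
    P.map (algebraMap ℤ ℂ) = ((P.aroots ℂ).map fun z => X - C z).prod :=
  (IsAlgClosed.splits _).eq_prod_roots_of_monic (h.1.map _)

theorem reverse_comp_prod (c : ℂ) (hc : c ≠ 0) : ∀ R : Multiset ℂ, (∀ z ∈ R, z ≠ 0) →
    ((R.map fun z => X - C z).prod.comp (C c * X)).reverse =
      C (R.map fun z => -z).prod * (R.map fun z => X - C (c / z)).prod := by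
  intro R
  induction R using Multiset.induction with
  | empty => intro _; simp [reverse]
  | cons a R ih =>
    intro hR
    have ha : a ≠ 0 := hR a (Multiset.mem_cons_self _ _)
    simp only [Multiset.map_cons, Multiset.prod_cons, mul_comp, reverse_mul_of_domain,
      ih fun z hz => hR z (Multiset.mem_cons_of_mem hz)]
    have h1 : ((X - C a).comp (C c * X)).reverse = C (-a) * (X - C (c / a)) := by
      ext n
      rw [coeff_reverse, sub_comp, X_comp, C_comp, natDegree_sub_C, natDegree_C_mul_X c hc, coeff_C_mul]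
      rcases n with _ | _ | n
      · simp [revAt_le, mul_div_cancel₀ _ ha]
      · simp [revAt_le, coeff_C, coeff_X]
      · rw [revAt_eq_self_of_lt (by omega)]
        simp [coeff_C, coeff_X]
    rw [h1, map_mul]
    ring

/-- The functional equation, coefficientwise. -/
theorem IsWeilPoly.coeff_sym (h : IsWeilPoly q P) (hq : q ≠ 0) (j : ℕ) (hj : j ≤ P.natDegree) :
    q ^ (P.natDegree - j) * P.coeff (P.natDegree - j) = P.coeff 0 * P.coeff j := by
  have hq' : (q : ℂ) ≠ 0 := by exact_mod_cast hq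
  have hz : ∀ z ∈ P.aroots ℂ, z ≠ 0 := fun z hz h0 => hq' (by rw [← h.2 z hz, h0, zero_mul])
  have key := reverse_comp_prod (q : ℂ) hq' (P.aroots ℂ) hz
  rw [show ((P.aroots ℂ).map fun z => X - C ((q : ℂ) / z)).prod = ((P.aroots ℂ).map fun z => X - C z).prod by
    conv_rhs => rw [← map_conj_aroots P, Multiset.map_map]
    refine congrArg Multiset.prod (Multiset.map_congr rfl fun z hm => ?_)
    show X - C ((q : ℂ) / z) = X - C (conj z)
    rw [← h.2 z hm, mul_div_cancel_left₀ _ (hz z hm)]] at key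
  rw [show ((P.aroots ℂ).map fun z => -z).prod = (P.map (algebraMap ℤ ℂ)).coeff 0 by
    rw [h.eq_prod, coeff_zero_multiset_prod, Multiset.map_map]
    exact congrArg Multiset.prod (Multiset.map_congr rfl fun z _ => by simp)] at key
  rw [← h.eq_prod] at key
  have := congrArg (fun f : ℂ[X] => f.coeff j) key
  simp only [coeff_reverse, coeff_C_mul] at this
  rw [natDegree_comp, natDegree_C_mul_X _ hq', mul_one, h.1.natDegree_map, revAt_le hj,
    comp_C_mul_X_coeff, coeff_map, coeff_map, coeff_map, algebraMap_int_eq, eq_intCast, eq_intCast, eq_intCast,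
    mul_comm] at this
  exact_mod_cast this

theorem IsWeilPoly.coeff_zero (h : IsWeilPoly q P) (hq : q ≠ 0) (D : ℕ) (hD : P.natDegree = 2 * D) :
    ∃ ε : ℤ, (ε = 1 ∨ ε = -1) ∧ P.coeff 0 = ε * q ^ D := by
  have h0 := h.coeff_sym hq 0 (Nat.zero_le _)
  rw [Nat.sub_zero, h.1.coeff_natDegree, mul_one, hD] at h0
  have h1 : P.coeff 0 ^ 2 = (q ^ D) ^ 2 := by rw [sq, ← h0]; ring
  rcases sq_eq_sq_iff_eq_or_eq_neg.1 h1 with h2 | h2
  · exact ⟨1, .inl rfl, by rw [h2, one_mul]⟩
  · exact ⟨-1, .inr rfl, by rw [h2]; ring⟩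

/-- `a_{D-r} = ε q^r a_{D+r}`. -/
theorem IsWeilPoly.coeff_low (h : IsWeilPoly q P) (hq : q ≠ 0) (D : ℕ) (hD : P.natDegree = 2 * D) {ε : ℤ}
    (hε : P.coeff 0 = ε * q ^ D) (r : ℕ) (hr : r ≤ D) :
    P.coeff (D - r) = ε * q ^ r * P.coeff (D + r) := by
  have h0 := h.coeff_sym hq (D + r) (by omega)
  rw [hε, show P.natDegree - (D + r) = D - r by omega] at h0
  refine mul_left_cancel₀ (pow_ne_zero (D - r) hq) (h0.trans ?_)
  rw [show q ^ D = q ^ (D - r) * q ^ r by rw [← pow_add, Nat.sub_add_cancel hr]]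
  ring

theorem IsWeilPoly.of_nonreal (h : IsWeilPoly q P) (hnr : ∀ z ∈ P.aroots ℂ, z.im ≠ 0) :
    ∃ D, P.natDegree = 2 * D ∧ P.coeff 0 = q ^ D := by
  classical
  set R := P.aroots ℂ with hR
  set S := R.filter fun z => 0 < z.im with hS
  have hneg : R.filter (fun z => ¬0 < z.im) = S.map conj := by
    conv_lhs => rw [hR, ← map_conj_aroots P]
    rw [Multiset.filter_map, hS, hR]
    refine congrArg (Multiset.map _) (Multiset.filter_congr fun z hz => ?_)
    simp only [Function.comp_apply, Complex.conj_im, not_lt, neg_nonpos]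
    exact ⟨fun h => lt_of_le_of_ne h (hnr z hz).symm, le_of_lt⟩
  have hsplit : R = S + S.map conj := by rw [← hneg, hS, Multiset.filter_add_not]
  have hcard : P.natDegree = R.card := by
    rw [hR, aroots, ← (IsAlgClosed.splits (P.map (algebraMap ℤ ℂ))).natDegree_eq_card_roots, h.1.natDegree_map]
  refine ⟨S.card, by rw [hcard, hsplit, Multiset.card_add, Multiset.card_map, two_mul], ?_⟩
  have hc : ((P.coeff 0 : ℤ) : ℂ) = (R.map fun z => -z).prod := by
    rw [← eq_intCast (algebraMap ℤ ℂ), ← coeff_map, h.eq_prod, coeff_zero_multiset_prod, Multiset.map_map]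
    exact congrArg Multiset.prod (Multiset.map_congr rfl fun z _ => by simp)
  rw [hsplit, Multiset.map_add, Multiset.prod_add, Multiset.map_map, ← Multiset.prod_map_mul] at hc
  rw [Multiset.map_congr (g := fun _ => (q : ℂ)) rfl fun z hz => by
    show -z * -conj z = (q : ℂ)
    rw [neg_mul_neg, h.2 z (by rw [← hR]; exact (Multiset.mem_filter.1 hz).1)]] at hc
  rw [Multiset.map_const', Multiset.prod_replicate] at hc
  exact_mod_cast hc

end Groth.Agent.WeilNumLib
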