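import Groth.Agent.WeilNumLib.Recip
import Mathlib.RingTheory.MvPolynomial.IrreducibleQuadratic
import Mathlib.RingTheory.Polynomial.UniqueFactorization
import Mathlib.RingTheory.Regular.RegularSequence
import Mathlib.RingTheory.Polynomial.RationalRoot
import Mathlib.RingTheory.Polynomial.GaussLemma
import Mathlib.RingTheory.PrincipalIdealDomain
import Mathlib.Algebra.BigOperators.Associated
import Mathlib.LinearAlgebra.Dimension.Constructions
import Mathlib.LinearAlgebra.FreeModule.Basic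

/-!
The minimal central order `ℤ[F, V] → ∏ Kᵢ` of a finite family of Weil `q`-numbers.
-/

set_option autoImplicit false

universe u

open MvPolynomial

namespace Groth.Agent.WeilNumLib

local notation "R₂" => MvPolynomial (Fin 2) ℤ

/-- `F V - q`. -/
noncomputable def fvq (q : ℤ) : R₂ := X 0 * X 1 - C q

/-- The symmetric polynomial of a reciprocal polynomial of degree `2 * D`. -/
noncomputable def hStd (P : Polynomial ℤ) (D : ℕ) (ε : ℤ) : R₂ :=
  C (P.coeff D) + ∑ r ∈ Finset.range D, C (P.coeff (D + (r + 1))) * (X 0 ^ (r + 1) + C ε * X 1 ^ (r + 1))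

variable {q : ℤ}

theorem eq_C_of_dvd_C {σ : Type*} {d : MvPolynomial σ ℤ} {c : ℤ} (hc : c ≠ 0) (h : d ∣ C c) :
    ∃ b, d = C b := by
  obtain ⟨e, he⟩ := h
  have hd : d ≠ 0 := by rintro rfl; simp [hc] at he
  have he0 : e ≠ 0 := by rintro rfl; simp [hc] at he
  have := congrArg totalDegree he
  rw [totalDegree_C, totalDegree_mul_of_isDomain hd he0] at this
  exact ⟨_, totalDegree_eq_zero_iff_eq_C.1 (by omega)⟩

theorem prime_fvq (hq : q ≠ 0) : Prime (fvq q) := by
  rw [← irreducible_iff_prime, show fvq q = X 0 * X 1 + C (-q) by rw [fvq, map_neg, sub_eq_add_neg]]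
  refine irreducible_mul_X_add _ _ 1 (X_ne_zero 0) (by simp [vars_X]) (by rw [vars_C]; simp) ?_
  intro d h1 h2
  obtain ⟨b, rfl⟩ := eq_C_of_dvd_C (neg_ne_zero.2 hq) h2
  have hb := (C_dvd_iff_dvd_coeff _ _).1 h1 (Finsupp.single 0 1)
  rw [coeff_X', if_pos rfl] at hb
  exact (isUnit_of_dvd_one hb).map C

theorem not_dvd_X0 (q : ℤ) : ¬ fvq q ∣ X 0 := fun ⟨e, he⟩ => by
  simpa [fvq] using congrArg (eval ![1, q]) he

/-- `F^D h ≡ P(F)` modulo `F V - q`. -/
theorem hStd_spec {P : Polynomial ℤ} {D : ℕ} (hD : P.natDegree = 2 * D) (hw : IsWeilPoly q P) (hq : q ≠ 0)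
    {ε : ℤ} (hε : P.coeff 0 = ε * q ^ D) :
    fvq q ∣ X 0 ^ D * hStd P D ε - Polynomial.aeval (X 0 : R₂) P := by
  rw [← Ideal.mem_span_singleton, ← Ideal.Quotient.mk_eq_mk_iff_sub_mem]
  set m := Ideal.Quotient.mk (Ideal.span {fvq q})
  have hFV : m (X 0) * m (X 1) = m (C q) := by
    rw [← map_mul, Ideal.Quotient.mk_eq_mk_iff_sub_mem]
    exact Ideal.mem_span_singleton_self _
  have hP : Polynomial.aeval (X 0 : R₂) P =
      (∑ r ∈ Finset.range D, C (P.coeff (D - (r + 1))) * X 0 ^ (D - (r + 1))) + C (P.coeff D) * X 0 ^ D +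
        ∑ r ∈ Finset.range D, C (P.coeff (D + (r + 1))) * X 0 ^ (D + (r + 1)) := by
    rw [Polynomial.aeval_eq_sum_range, show P.natDegree + 1 = D + 1 + D by omega, Finset.sum_range_add,
      Finset.sum_range_succ, ← Finset.sum_range_reflect]
    simp only [smul_eq_C_mul]
    refine congrArg₂ (· + ·) (congrArg (· + _) (Finset.sum_congr rfl fun r hr => ?_))
      (Finset.sum_congr rfl fun r _ => by rw [add_assoc, add_comm 1 r])
    rw [show D - 1 - r = D - (r + 1) by omega]
  rw [hP, hStd]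
  simp only [map_add, map_mul, map_sum, map_pow, mul_add, Finset.mul_sum, Finset.sum_add_distrib]
  have key : ∀ r ∈ Finset.range D, m (X 0) ^ D * (m (C (P.coeff (D + (r + 1)))) * (m (C ε) * m (X 1) ^ (r + 1))) =
      m (C (P.coeff (D - (r + 1)))) * m (X 0) ^ (D - (r + 1)) := fun r hr => by
    have hr' : r + 1 ≤ D := Finset.mem_range.1 hr
    rw [hw.coeff_low hq D hD hε (r + 1) hr', map_mul C, map_mul C, map_pow C, map_mul, map_mul, map_pow, ← hFV,
      show m (X 0) ^ D = m (X 0) ^ (D - (r + 1)) * m (X 0) ^ (r + 1) by rw [← pow_add, Nat.sub_add_cancel hr']]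
    ring
  rw [Finset.sum_congr rfl key]
  rw [Finset.sum_congr rfl fun r _ => show m (X 0) ^ D * (m (C (P.coeff (D + (r + 1)))) * m (X 0) ^ (r + 1)) =
      m (C (P.coeff (D + (r + 1)))) * m (X 0) ^ (D + (r + 1)) by ring]
  ring

/-- Uniqueness of the symmetric polynomial modulo `F V - q`. -/
theorem dvd_sub_hStd {P : Polynomial ℤ} {D : ℕ} (hD : P.natDegree = 2 * D) (hw : IsWeilPoly q P) (hq : q ≠ 0)
    {ε : ℤ} (hε : P.coeff 0 = ε * q ^ D) {h : R₂}
    (hh : X 0 ^ D * h - Polynomial.aeval (X 0 : R₂) P ∈ Ideal.span {fvq q}) : fvq q ∣ h - hStd P D ε := by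
  refine ((prime_fvq hq).dvd_or_dvd (a := X 0 ^ D) ?_).resolve_left fun h1 =>
    not_dvd_X0 q ((prime_fvq hq).dvd_of_dvd_pow h1)
  rw [show X 0 ^ D * (h - hStd P D ε) = (X 0 ^ D * h - Polynomial.aeval (X 0 : R₂) P) -
    (X 0 ^ D * hStd P D ε - Polynomial.aeval (X 0 : R₂) P) by ring]
  exact dvd_sub (Ideal.mem_span_singleton.1 hh) (hStd_spec hD hw hq hε)

/-- The symmetric polynomial is not a multiple of `F V - q`. -/
theorem not_dvd_h {P : Polynomial ℤ} (hP : P ≠ 0) {D : ℕ} {h : R₂}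
    (hh : X 0 ^ D * h - Polynomial.aeval (X 0 : R₂) P ∈ Ideal.span {fvq q}) : ¬ fvq q ∣ h := fun h1 => by
  have h2 : fvq q ∣ Polynomial.aeval (X 0 : R₂) P := by
    simpa using dvd_sub (Dvd.dvd.mul_left h1 (X 0 ^ D)) (Ideal.mem_span_singleton.1 hh)
  refine hP ((Polynomial.map_eq_zero_iff (algebraMap ℤ ℚ).injective_int).1 (Polynomial.eq_zero_of_infinite_isRoot _
    ((Set.infinite_range_of_injective (f := fun n : ℕ => ((n + 1 : ℕ) : ℚ))
      (Nat.cast_injective.comp (add_left_injective 1))).mono ?_)))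
  rintro _ ⟨n, rfl⟩
  obtain ⟨e, he⟩ := h2
  have := congrArg (aeval (R := ℤ) ![((n + 1 : ℕ) : ℚ), (q : ℚ) / ((n + 1 : ℕ) : ℚ)]) he
  rw [← Polynomial.aeval_algHom_apply] at this
  have hn : ((n + 1 : ℕ) : ℚ) ≠ 0 := Nat.cast_ne_zero.2 (Nat.succ_ne_zero n)
  have h0 : aeval (R := ℤ) ![((n + 1 : ℕ) : ℚ), (q : ℚ) / ((n + 1 : ℕ) : ℚ)] (fvq q) = 0 := by
    simp [fvq]
    field_simp
    ring
  rw [map_mul, h0, zero_mul, aeval_X, Matrix.cons_val_zero] at this
  show Polynomial.IsRoot (P.map (algebraMap ℤ ℚ)) _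
  rw [Polynomial.IsRoot, Polynomial.eval_map_algebraMap]
  exact this

theorem isWeaklyRegular_pair {A : Type*} [CommRing A] [IsDomain A] {a b : A} (ha : Prime a) (hb : ¬ a ∣ b) :
    RingTheory.Sequence.IsWeaklyRegular A [a, b] := by
  rw [RingTheory.Sequence.isWeaklyRegular_cons_iff, RingTheory.Sequence.isWeaklyRegular_cons_iff]
  refine ⟨IsSMulRegular.of_ne_zero ha.ne_zero, ?_, RingTheory.Sequence.IsWeaklyRegular.nil _ _⟩
  rw [isSMulRegular_iff_right_eq_zero_of_smul]
  intro x hx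
  obtain ⟨x, rfl⟩ := Submodule.Quotient.mk_surjective _ x
  rw [← Submodule.Quotient.mk_smul, Submodule.Quotient.mk_eq_zero, Submodule.mem_smul_pointwise_iff_exists] at hx
  obtain ⟨y, -, hy⟩ := hx
  obtain ⟨z, rfl⟩ := (ha.dvd_or_dvd (a := b) (b := x) ⟨y, hy.symm⟩).resolve_left hb
  rw [Submodule.Quotient.mk_eq_zero, Submodule.mem_smul_pointwise_iff_exists]
  exact ⟨z, trivial, rfl⟩

/-- The monomials `F^i` (`i < D`), `V^j` (`1 ≤ j ≤ D`). -/
noncomputable def fam (D : ℕ) : Fin D ⊕ Fin D → R₂ :=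
  Sum.elim (fun i => X 0 ^ (i : ℕ)) (fun j => X 1 ^ ((j : ℕ) + 1))

/-- They span modulo `(F V - q, h)`. -/
theorem span_fam_sup {P : Polynomial ℤ} {D : ℕ} (hD : P.natDegree = 2 * D) (hP : P.Monic) {ε : ℤ}
    (hε : ε = 1 ∨ ε = -1) {I : Ideal R₂} (ha : fvq q ∈ I) (hh : hStd P D ε ∈ I) (g : R₂) :
    g ∈ Submodule.span ℤ (Set.range (fam D)) ⊔ I.restrictScalars ℤ := by
  set N := Submodule.span ℤ (Set.range (fam D)) ⊔ I.restrictScalars ℤ with hN
  have hI : ∀ {x}, x ∈ I → x ∈ N := fun hx => Submodule.mem_sup_right hx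
  rcases Nat.eq_zero_or_pos D with rfl | hD0
  · refine hI ?_
    have h1 : hStd P 0 ε = 1 := by
      have := hP.coeff_natDegree
      rw [hD] at this
      simp only [Nat.mul_zero] at this
      simp [hStd, this]
    exact (Ideal.eq_top_iff_one I).2 (h1 ▸ hh) ▸ trivial
  have hF : ∀ i, i < D → X 0 ^ i ∈ N := fun i hi =>
    Submodule.mem_sup_left (Submodule.subset_span ⟨.inl ⟨i, hi⟩, rfl⟩)
  have hV : ∀ j, 1 ≤ j → j ≤ D → X 1 ^ j ∈ N := fun j h1 hj =>
    Submodule.mem_sup_left (Submodule.subset_span ⟨.inr ⟨j - 1, by omega⟩, by simp [fam, Nat.sub_add_cancel h1]⟩)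
  have h1 : (1 : R₂) ∈ N := pow_zero (X 0 : R₂) ▸ hF 0 hD0
  have hC : ∀ (c : ℤ) {x}, x ∈ N → C c * x ∈ N := fun c x hx => by
    rw [← smul_eq_C_mul]; exact N.smul_mem c hx
  have hmodI : ∀ {x y : R₂}, x - y ∈ I → y ∈ N → x ∈ N := fun {x y} hxy hy => by
    simpa using N.add_mem (hI hxy) hy
  have hlead : P.coeff (D + (D - 1 + 1)) = 1 := by
    rw [show D + (D - 1 + 1) = P.natDegree by omega]; exact hP.coeff_natDegree
  have hFD : X 0 ^ D ∈ N := by
    obtain ⟨d, rfl⟩ : ∃ d, D = d + 1 := ⟨D - 1, by omega⟩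
    refine hmodI (y := -(C (P.coeff (d + 1)) * 1 + ∑ r ∈ Finset.range d, C (P.coeff (d + 1 + (r + 1))) *
        (X 0 ^ (r + 1) + C ε * X 1 ^ (r + 1)) + C ε * X 1 ^ (d + 1))) ?_ ?_
    · convert hh using 1
      rw [hStd, Finset.sum_range_succ, show P.coeff (d + 1 + (d + 1)) = 1 by simpa using hlead, map_one]
      ring
    refine N.neg_mem (N.add_mem (N.add_mem (hC _ h1) (sum_mem fun r hr => hC _ (N.add_mem ?_ (hC _ ?_))))
      (hC _ (hV _ (by omega) le_rfl)))
    · exact hF _ (by have := Finset.mem_range.1 hr; omega)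
    · exact hV _ (by omega) (by have := Finset.mem_range.1 hr; omega)
  have hF' : ∀ i, i ≤ D → X 0 ^ i ∈ N := fun i hi => hi.lt_or_eq.elim (hF i) fun h => h ▸ hFD
  have hVF : ∀ i, i < D → X 1 * X 0 ^ i ∈ N := fun i hi => by
    rcases i with _ | i
    · simpa using hV 1 le_rfl hD0
    · refine hmodI (y := C q * X 0 ^ i) ?_ (hC q (hF _ (by omega)))
      rw [show X 1 * X 0 ^ (i + 1) - C q * X 0 ^ i = fvq q * X 0 ^ i by rw [fvq]; ring]
      exact I.mul_mem_right _ ha
  have hV' : X 1 ^ (D + 1) ∈ N := by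
    have hεε : C ε * C ε = (1 : R₂) := by
      rw [← map_mul]; rcases hε with rfl | rfl <;> simp
    obtain ⟨d, rfl⟩ : ∃ d, D = d + 1 := ⟨D - 1, by omega⟩
    refine hmodI (y := -(C ε * (C (P.coeff (d + 1)) * (X 1 * X 0 ^ 0) + X 1 * X 0 ^ (d + 1) +
        X 1 * ∑ r ∈ Finset.range d, C (P.coeff (d + 1 + (r + 1))) * (X 0 ^ (r + 1) + C ε * X 1 ^ (r + 1))))) ?_ ?_
    · convert I.mul_mem_left (C ε) (I.mul_mem_left (X 1) hh) using 1
      rw [hStd, Finset.sum_range_succ, show P.coeff (d + 1 + (d + 1)) = 1 by simpa using hlead, map_one]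
      linear_combination (-(X 1 : R₂) ^ (d + 2)) * hεε
    refine N.neg_mem (hC _ (N.add_mem (N.add_mem (hC _ (hVF 0 (by omega))) ?_) ?_))
    · refine hmodI (y := C q * X 0 ^ d) ?_ (hC q (hF _ (by omega)))
      rw [show X 1 * X 0 ^ (d + 1) - C q * X 0 ^ d = fvq q * X 0 ^ d by rw [fvq]; ring]
      exact I.mul_mem_right _ ha
    · rw [Finset.mul_sum]
      refine sum_mem fun r hr => ?_
      have hr := Finset.mem_range.1 hr
      rw [show ∀ c : R₂, X 1 * (c * (X 0 ^ (r + 1) + C ε * X 1 ^ (r + 1))) =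
        c * (X 1 * X 0 ^ (r + 1)) + c * (C ε * X 1 ^ (r + 2)) from fun c => by ring]
      exact N.add_mem (hC _ (hVF _ (by omega))) (hC _ (hC _ (hV _ (by omega) (by omega))))
  induction g using MvPolynomial.induction_on with
  | C c => simpa using hC c h1
  | add g g' h h' => exact N.add_mem h h'
  | mul_X g n hg =>
    rw [mul_comm]
    obtain ⟨y, hy, z, hz, rfl⟩ := Submodule.mem_sup.1 hg
    rw [mul_add]
    refine N.add_mem ?_ (hI (I.mul_mem_left _ hz))
    clear hg
    induction hy using Submodule.span_induction with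
    | zero => simp
    | add x y _ _ hx hy => rw [mul_add]; exact N.add_mem hx hy
    | smul c x _ hx => rw [mul_smul_comm]; exact N.smul_mem c hx
    | mem x hx =>
      obtain ⟨i | j, rfl⟩ := hx
      · fin_cases n
        · show X 0 * X 0 ^ (i : ℕ) ∈ N
          rw [← pow_succ']; exact hF' _ i.2
        · exact hVF _ i.2
      · fin_cases n
        · show X 0 * X 1 ^ ((j : ℕ) + 1) ∈ N
          refine hmodI (y := C q * X 1 ^ (j : ℕ)) ?_ ?_
          · rw [show X 0 * X 1 ^ ((j : ℕ) + 1) - C q * X 1 ^ (j : ℕ) = fvq q * X 1 ^ (j : ℕ) by rw [fvq]; ring]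
            exact I.mul_mem_right _ ha
          · rcases Nat.eq_zero_or_pos (j : ℕ) with h | h
            · rw [h, pow_zero]; exact hC q h1
            · exact hC q (hV _ h j.2.le)
        · show X 1 * X 1 ^ ((j : ℕ) + 1) ∈ N
          rw [← pow_succ']
          rcases Nat.lt_or_ge ((j : ℕ) + 1) D with h | h
          · exact hV _ (by omega) h
          · rw [show (j : ℕ) + 1 = D by have := j.2; omega]; exact hV'

section Family

variable {ι : Type} [Fintype ι] {K : ι → Type u} [∀ i, Field (K i)] [∀ i, CharZero (K i)] (π : ∀ i, K i)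

/-- `F ↦ π`, `V ↦ q/π`. -/
noncomputable def ev (q : ℤ) : R₂ →ₐ[ℤ] ((i : ι) → K i) :=
  aeval ![fun i => π i, fun i => (q : K i) / π i]

theorem ev_natPow (p e : ℕ) : ev π ((p : ℤ) ^ e) =
    aeval ![fun i => π i, fun i => ((p : K i) ^ e) / π i] := by
  have h : (fun i => (((p : ℤ) ^ e : ℤ) : K i) / π i) = fun i => ((p : K i) ^ e) / π i :=
    funext fun i => by push_cast; rfl
  rw [ev, h]

/-- The data of a family of pairwise nonconjugate Weil numbers of total degree `2 * D`. -/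
structure Family (q : ℤ) (D : ℕ) : Prop where
  int : ∀ i, IsIntegral ℤ (π i)
  weil : ∀ i, IsWeilPoly q (minpoly ℤ (π i))
  inj : ∀ i j, minpoly ℤ (π i) = minpoly ℤ (π j) → i = j
  deg : ∑ i, (minpoly ℤ (π i)).natDegree = 2 * D
  q0 : q ≠ 0

variable {π} {D : ℕ}

theorem family_mk (p e : ℕ) [hp : Fact p.Prime] (hint : ∀ i, IsIntegral ℤ (π i))
    (hweil : ∀ i, ∀ z ∈ (minpoly ℤ (π i)).aroots ℂ, ‖z‖ = Real.sqrt ((p : ℝ) ^ e))
    (hinj : ∀ i j, minpoly ℤ (π i) = minpoly ℤ (π j) → i = j)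
    (hD : ∑ i, (minpoly ℤ (π i)).natDegree = 2 * D) : Family π ((p : ℤ) ^ e) D :=
  ⟨hint, fun i => isWeilPoly_minpoly (hint i) (hweil i), hinj, hD,
    pow_ne_zero _ (by exact_mod_cast hp.out.ne_zero)⟩

theorem Family.ne_zero (hf : Family π q D) (i : ι) : π i ≠ 0 := fun h0 => hf.q0 <| by
  have h1 : (minpoly ℤ (π i)).coeff 0 = 0 := by
    have := minpoly.aeval ℤ (π i)
    rw [h0, Polynomial.aeval_def, Polynomial.eval₂_at_zero, algebraMap_int_eq, eq_intCast, Int.cast_eq_zero] at this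
    rwa [h0]
  have h2 : (0 : ℂ) ∈ (minpoly ℤ (π i)).aroots ℂ := by
    rw [Polynomial.mem_aroots, Polynomial.aeval_def, Polynomial.eval₂_at_zero, h1, map_zero]
    exact ⟨minpoly.ne_zero (hf.int i), rfl⟩
  exact_mod_cast (show (q : ℂ) = 0 by rw [← (hf.weil i).2 0 h2]; simp)

theorem Family.monic_prod (hf : Family π q D) : (∏ i, minpoly ℤ (π i)).Monic :=
  Polynomial.monic_prod_of_monic _ _ fun i _ => minpoly.monic (hf.int i)

theorem Family.natDegree_prod (hf : Family π q D) : (∏ i, minpoly ℤ (π i)).natDegree = 2 * D := by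
  rw [Polynomial.natDegree_prod_of_monic _ _ fun i _ => minpoly.monic (hf.int i), hf.deg]

theorem Family.exists_sign (hf : Family π q D) :
    ∃ ε : ℤ, (ε = 1 ∨ ε = -1) ∧ (∏ i, minpoly ℤ (π i)).coeff 0 = ε * q ^ D :=
  (IsWeilPoly.prod hf.weil).coeff_zero hf.q0 D hf.natDegree_prod

theorem Family.prod_dvd (hf : Family π q D) {G : Polynomial ℤ} (hG : ∀ i, Polynomial.aeval (π i) G = 0) :
    ∏ i, minpoly ℤ (π i) ∣ G := by
  classical
  refine Finset.prod_dvd_of_isRelPrime ?_ fun i _ => minpoly.isIntegrallyClosed_dvd (hf.int i) (hG i)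
  intro i _ j _ hij
  refine (minpoly.irreducible (hf.int i)).isRelPrime_iff_not_dvd.2 fun h => hij (hf.inj i j ?_)
  exact Polynomial.eq_of_monic_of_associated (minpoly.monic (hf.int i)) (minpoly.monic (hf.int j))
    ((minpoly.irreducible (hf.int i)).associated_of_dvd (minpoly.irreducible (hf.int j)) h)

theorem ev_X (hf : Family π q D) : ev π q (X 0) * ev π q (X 1) = (q : (i : ι) → K i) := by
  funext i
  simp only [ev, aeval_X, Matrix.cons_val_zero, Matrix.cons_val_one, Pi.mul_apply, Pi.intCast_apply]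
  exact mul_div_cancel₀ _ (hf.ne_zero i)

theorem ev_fvq (hf : Family π q D) : ev π q (fvq q) = 0 := by
  rw [fvq, map_sub, map_mul, ev_X hf]
  simp [ev]

theorem ev_h (hf : Family π q D) {h : R₂}
    (hh : X 0 ^ D * h - Polynomial.aeval (X 0 : R₂) (∏ i, minpoly ℤ (π i)) ∈ Ideal.span {fvq q}) :
    ev π q h = 0 := by
  obtain ⟨e, he⟩ := Ideal.mem_span_singleton.1 hh
  have := congrArg (ev π q) he
  rw [map_sub, map_mul, map_pow, map_mul, ev_fvq hf, zero_mul, ← Polynomial.aeval_algHom_apply, sub_eq_zero] at this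
  funext i
  have h2 := congrFun this i
  have h3 : Polynomial.aeval (ev π q (X 0)) (∏ j, minpoly ℤ (π j)) i = 0 := by
    rw [show Polynomial.aeval (ev π q (X 0)) (∏ j, minpoly ℤ (π j)) i =
      Polynomial.aeval (ev π q (X 0) i) (∏ j, minpoly ℤ (π j)) from
      (Polynomial.aeval_algHom_apply (Pi.evalAlgHom ℤ K i) _ _).symm, map_prod]
    refine Finset.prod_eq_zero (Finset.mem_univ i) ?_
    simp [ev]
  rw [h3, Pi.mul_apply, Pi.pow_apply] at h2
  exact (mul_eq_zero.1 h2).resolve_left (pow_ne_zero _ (by simpa [ev] using hf.ne_zero i))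

theorem Family.linearIndependent_fam (hf : Family π q D) : LinearIndependent ℤ (ev π q ∘ fam D) := by
  classical
  rw [Fintype.linearIndependent_iff]
  intro c hc
  let G : Polynomial ℤ := ∑ i : Fin D, Polynomial.monomial (D + i) (c (.inl i)) +
    ∑ j : Fin D, Polynomial.monomial (D - ((j : ℕ) + 1)) (c (.inr j) * q ^ ((j : ℕ) + 1))
  have hroot : ∀ i, Polynomial.aeval (π i) G = 0 := fun i => by
    have h0 := congrFun hc i
    rw [Finset.sum_apply, Fintype.sum_sum_type] at h0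
    have := congrArg (π i ^ D * ·) h0
    simp only [Pi.zero_apply, mul_zero, mul_add, Finset.mul_sum] at this
    simp only [G, map_add, map_sum, Polynomial.aeval_monomial]
    refine (congrArg₂ (· + ·) (Finset.sum_congr rfl fun j _ => ?_) (Finset.sum_congr rfl fun j _ => ?_)).trans this
    · simp [fam, ev, zsmul_eq_mul]
      ring
    · simp [fam, ev, zsmul_eq_mul]
      rw [div_pow, show π i ^ D = π i ^ (D - ((j : ℕ) + 1)) * π i ^ ((j : ℕ) + 1) by
        rw [← pow_add, Nat.sub_add_cancel j.2]]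
      field_simp [hf.ne_zero i]
  have hG : G = 0 := by
    by_contra hne
    have h1 := Polynomial.natDegree_le_of_dvd (hf.prod_dvd hroot) hne
    rw [hf.natDegree_prod] at h1
    have h2 : G.natDegree < 2 * D := by
      rcases Nat.eq_zero_or_pos D with rfl | hD0
      · exact absurd (by simp [G]) hne
      refine lt_of_le_of_lt (Polynomial.natDegree_le_iff_coeff_eq_zero.2 fun N hN => ?_)
        (show 2 * D - 1 < 2 * D by omega)
      simp only [G, Polynomial.coeff_add, Polynomial.finsetSum_coeff, Polynomial.coeff_monomial]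
      rw [Finset.sum_eq_zero, Finset.sum_eq_zero, add_zero] <;>
        intro x _ <;> rw [if_neg] <;> have := x.2 <;> omega
    omega
  rintro (i | j)
  · have := congrArg (fun f : Polynomial ℤ => f.coeff (D + (i : ℕ))) hG
    simp only [G, Polynomial.coeff_add, Polynomial.finsetSum_coeff, Polynomial.coeff_monomial,
      Polynomial.coeff_zero] at this
    rw [Finset.sum_eq_single i (fun b _ hb => by rw [if_neg]; intro h; exact hb (Fin.ext (by omega))) (by simp),
      if_pos rfl, Finset.sum_eq_zero (fun x _ => by rw [if_neg]; have := x.2; omega), add_zero] at this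
    exact this
  · have := congrArg (fun f : Polynomial ℤ => f.coeff (D - ((j : ℕ) + 1))) hG
    simp only [G, Polynomial.coeff_add, Polynomial.finsetSum_coeff, Polynomial.coeff_monomial,
      Polynomial.coeff_zero] at this
    rw [Finset.sum_eq_zero (fun x _ => by rw [if_neg]; have := j.2; omega), zero_add,
      Finset.sum_eq_single j (fun b _ hb => by
        rw [if_neg]; intro h; exact hb (Fin.ext (by have := b.2; have := j.2; omega))) (by simp),
      if_pos rfl] at this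
    exact (mul_eq_zero.1 this).resolve_right (pow_ne_zero _ hf.q0)

theorem Family.ker_ev (hf : Family π q D) {h : R₂}
    (hh : X 0 ^ D * h - Polynomial.aeval (X 0 : R₂) (∏ i, minpoly ℤ (π i)) ∈ Ideal.span {fvq q}) :
    RingHom.ker (ev π q) = Ideal.span {fvq q, h} := by
  refine le_antisymm (fun g hg => ?_) ?_
  · obtain ⟨ε, hε1, hε⟩ := hf.exists_sign
    have hstd : hStd (∏ i, minpoly ℤ (π i)) D ε ∈ Ideal.span {fvq q, h} := by
      obtain ⟨e, he⟩ := dvd_sub_hStd hf.natDegree_prod (IsWeilPoly.prod hf.weil) hf.q0 hε hh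
      refine Ideal.mem_span_pair.2 ⟨-e, 1, ?_⟩
      linear_combination he
    obtain ⟨y, hy, z, hz, rfl⟩ := Submodule.mem_sup.1
      (span_fam_sup (q := q) hf.natDegree_prod hf.monic_prod hε1 (Ideal.subset_span (by simp)) hstd g)
    refine (Ideal.span _).add_mem ?_ hz
    obtain ⟨c, rfl⟩ := (Submodule.mem_span_range_iff_exists_fun ℤ).1 hy
    have hz0 : ev π q z = 0 := by
      obtain ⟨a, b, rfl⟩ := Ideal.mem_span_pair.1 hz
      simp [ev_fvq hf, ev_h hf hh]
    rw [RingHom.mem_ker, map_add, hz0, add_zero, map_sum] at hg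
    simp only [map_zsmul] at hg
    simp [Fintype.linearIndependent_iff.1 hf.linearIndependent_fam c hg]
  · rw [Ideal.span_le]
    rintro x (rfl | rfl)
    · exact ev_fvq hf
    · exact ev_h hf hh

theorem Family.exists_h (hf : Family π q D) : ∃ h : R₂,
    X 0 ^ D * h - Polynomial.aeval (X 0 : R₂) (∏ i, minpoly ℤ (π i)) ∈ Ideal.span {fvq q} := by
  obtain ⟨ε, -, hε⟩ := hf.exists_sign
  exact ⟨_, Ideal.mem_span_singleton.2 (hStd_spec hf.natDegree_prod (IsWeilPoly.prod hf.weil) hf.q0 hε)⟩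

theorem Family.free_range (hf : Family π q D) :
    Module.Free ℤ (ev π q).range ∧ Module.finrank ℤ (ev π q).range = 2 * D ∧ Module.Finite ℤ (ev π q).range := by
  obtain ⟨h, hh⟩ := hf.exists_h
  let b : Fin D ⊕ Fin D → (ev π q).range := fun k => ⟨ev π q (fam D k), ⟨_, rfl⟩⟩
  have hli : LinearIndependent ℤ b :=
    LinearIndependent.of_comp (ev π q).range.val.toLinearMap hf.linearIndependent_fam
  have hsp : ⊤ ≤ Submodule.span ℤ (Set.range b) := by
    rintro ⟨_, g, rfl⟩ -
    obtain ⟨ε, hε1, hε⟩ := hf.exists_sign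
    obtain ⟨y, hy, z, hz, rfl⟩ := Submodule.mem_sup.1 (span_fam_sup (q := q) hf.natDegree_prod hf.monic_prod hε1
      (I := RingHom.ker (ev π q)) (ev_fvq hf)
      (ev_h hf (Ideal.mem_span_singleton.2 (hStd_spec hf.natDegree_prod (IsWeilPoly.prod hf.weil) hf.q0 hε))) g)
    obtain ⟨c, rfl⟩ := (Submodule.mem_span_range_iff_exists_fun ℤ).1 hy
    refine (Submodule.mem_span_range_iff_exists_fun ℤ).2 ⟨c, Subtype.ext ?_⟩
    have hz0 : ev π q z = 0 := hz
    simp [b, hz0]
  let B := Module.Basis.mk hli hsp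
  exact ⟨Module.Free.of_basis B, by rw [Module.finrank_eq_card_basis B]; simp [two_mul], Module.Finite.of_basis B⟩

end Family

end Groth.Agent.WeilNumLib

namespace Groth.Agent.WeilNumLib

/-- With `x`, also `q / x` is a root. -/
theorem aeval_div_eq_zero {q : ℤ} {P : Polynomial ℤ} (hw : IsWeilPoly q P) (hq : q ≠ 0) {L : Type*} [Field L]
    {x : L} (hx : Polynomial.aeval x P = 0) : Polynomial.aeval ((q : L) / x) P = 0 := by
  set n := P.natDegree with hn
  have hc : (P.coeff 0 : ℤ) ^ 2 = q ^ n := by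
    have h0 := hw.coeff_sym hq 0 (Nat.zero_le _)
    rw [Nat.sub_zero, hw.1.coeff_natDegree, mul_one] at h0
    rw [sq, h0]
  rcases eq_or_ne x 0 with rfl | hx0
  · rw [div_zero]; exact hx
  have key : x ^ n * Polynomial.aeval ((q : L) / x) P = (P.coeff 0 : L) * Polynomial.aeval x P := by
    rw [Polynomial.aeval_eq_sum_range, Polynomial.aeval_eq_sum_range, Finset.mul_sum, Finset.mul_sum,
      ← Finset.sum_range_reflect]
    refine Finset.sum_congr rfl fun j hj => ?_
    have hj' : j ≤ n := by have := Finset.mem_range.1 hj; omega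
    have h0 : ((q : L) ^ (n - j)) * (P.coeff (n - j) : L) = (P.coeff 0 : L) * (P.coeff j : L) := by
      exact_mod_cast congrArg (Int.cast (R := L)) (hw.coeff_sym hq j hj')
    rw [show P.natDegree + 1 - 1 - j = n - j by omega, zsmul_eq_mul, zsmul_eq_mul, div_pow,
      show x ^ n = x ^ (n - j) * x ^ j by rw [← pow_add, Nat.sub_add_cancel hj'], ← mul_assoc (P.coeff 0 : L), ← h0]
    field_simp
  rw [hx, mul_zero] at key
  exact (mul_eq_zero.1 key).resolve_left (pow_ne_zero _ hx0)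

end Groth.Agent.WeilNumLib
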