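import Groth.Agent.LC.GorLCI
import Mathlib.RingTheory.RegularLocalRing.Polynomial
import Mathlib.RingTheory.RegularLocalRing.Defs
import Mathlib.RingTheory.PrincipalIdealDomain

/-!
Complete intersections in `ℤ[F, V]` are Gorenstein, with values in any universe.
-/

set_option autoImplicit false

universe u

open MvPolynomial

namespace Groth.Agent.WeilNumLib

/-- `ℤ[F, V]` lifted to the universe `u`. -/
abbrev RU : Type u := MvPolynomial (Fin 2) (ULift.{u} ℤ)

/-- Lowering. -/
noncomputable def lower : RU.{u} ≃+* MvPolynomial (Fin 2) ℤ :=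
  MvPolynomial.mapEquiv (Fin 2) ULift.ringEquiv

instance : IsRegularRing (ULift.{u} ℤ) := IsRegularRing.of_ringEquiv ULift.ringEquiv.symm

instance : IsDomain (ULift.{u} ℤ) := MulEquiv.isDomain ℤ ULift.ringEquiv.toMulEquiv

theorem gorensteinRing_RU : LocCoh.IsGorensteinRing RU.{u} :=
  LC.gorensteinRing_of_isRegularRing _

/-- A quotient of `ℤ[F, V]` by a pair `(a, b)` with `a` prime and `a ∤ b` is Gorenstein. -/
theorem gorensteinRing_quot_pair {R : Type u} [CommRing R] (f : MvPolynomial (Fin 2) ℤ →+* R)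
    (hf : Function.Surjective f) {a b : MvPolynomial (Fin 2) ℤ} (ha : Prime a) (hb : ¬ a ∣ b)
    (hker : RingHom.ker f = Ideal.span {a, b}) : LocCoh.IsGorensteinRing R := by
  haveI := gorensteinRing_RU.{u}
  set a' : RU.{u} := lower.symm a with ha'
  set b' : RU.{u} := lower.symm b with hb'
  have hab : Ideal.span {a'} ≤ RingHom.ker (f.comp lower.toRingHom) := by
    rw [Ideal.span_singleton_le_iff_mem, RingHom.mem_ker]
    show f (lower (lower.symm a)) = 0
    rw [RingEquiv.apply_symm_apply, ← RingHom.mem_ker, hker]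
    exact Ideal.subset_span (by simp)
  let g := Ideal.Quotient.lift (Ideal.span {a'}) (f.comp lower.toRingHom) hab
  have hp : Prime a' := (MulEquiv.prime_iff (lower.{u}).symm.toMulEquiv).2 ha
  haveI : (Ideal.span {a'}).IsPrime := (Ideal.span_singleton_prime hp.ne_zero).2 hp
  haveI : LocCoh.IsGorensteinRing (RU.{u} ⧸ Ideal.span {a'}) :=
    LC.gorensteinRing_of_surjective (A := RU.{u}) (π := (Ideal.Quotient.mk (Ideal.span {a'}) : RU.{u} →+* RU.{u} ⧸ Ideal.span {a'}))
      Ideal.Quotient.mk_surjective (f := a') (IsSMulRegular.of_ne_zero hp.ne_zero) Ideal.mk_ker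
  have hb0 : Ideal.Quotient.mk (Ideal.span {a'}) b' ≠ 0 := fun h => by
    rw [Ideal.Quotient.eq_zero_iff_mem, Ideal.mem_span_singleton] at h
    exact hb (by simpa [ha', hb'] using map_dvd lower.{u} h)
  refine LC.gorensteinRing_of_surjective g
    (Ideal.Quotient.lift_surjective_of_surjective _ _ (show Function.Surjective (f ∘ lower.{u}) from hf.comp lower.{u}.surjective))
    (f := Ideal.Quotient.mk (Ideal.span {a'}) b') (IsSMulRegular.of_ne_zero hb0) ?_
  have h1 : RingHom.ker (f.comp lower.toRingHom) = Ideal.span {a', b'} := by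
    ext x
    rw [RingHom.mem_ker, RingHom.comp_apply, ← RingHom.mem_ker, hker, Ideal.mem_span_pair, Ideal.mem_span_pair]
    constructor
    · rintro ⟨c, d, h⟩
      refine ⟨lower.symm c, lower.symm d, lower.injective ?_⟩
      simpa [ha', hb'] using h
    · rintro ⟨c, d, h⟩
      refine ⟨lower c, lower d, ?_⟩
      simp [← h, ha', hb']
  rw [show RingHom.ker g = (RingHom.ker (f.comp lower.toRingHom)).map (Ideal.Quotient.mk (Ideal.span {a'})) from
    Ideal.ker_quotient_lift _ hab, h1, Ideal.map_span, Set.image_pair]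
  simp [Ideal.span_insert_zero, Ideal.Quotient.eq_zero_iff_mem.2 (Ideal.mem_span_singleton_self a')]

end Groth.Agent.WeilNumLib
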