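import Groth.Agent.WeilNumLib.Recip
import Mathlib.NumberTheory.Padics.Complex
import Mathlib.Algebra.Field.ZMod
import Mathlib.RingTheory.Valuation.ValuationRing
import Mathlib.RingTheory.Polynomial.RationalRoot
import Mathlib.Algebra.GCDMonoid.IntegrallyClosed
import Mathlib.RingTheory.Bezout
import Mathlib.RingTheory.Valuation.Integers
import Mathlib.RingTheory.Valuation.ValuationSubring
import Mathlib.RingTheory.LocalRing.ResidueField.Basic
import Mathlib.RingTheory.IntegralClosure.IntegrallyClosed

/-!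
`p`-adic unit roots of Weil polynomials.
-/

set_option autoImplicit false

universe u

open Polynomial

namespace Groth.Agent.WeilNumLib

variable (p : ℕ) [Fact p.Prime]

/-- The order of vanishing at `0` of the reduction modulo `p`. -/
noncomputable def low (P : ℤ[X]) : ℕ := (P.map (Int.castRingHom (ZMod p))).natTrailingDegree

open scoped Classical in
theorem card_unit_roots {P : ℤ[X]} (hP : P.Monic) :
    Multiset.card ((P.aroots (PadicAlgCl p)).filter fun z => ‖z‖ = 1) + low p P = P.natDegree := by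
  let O := (Valued.v (R := PadicAlgCl p)).valuationSubring
  let k := IsLocalRing.ResidueField O
  have hvO : (Valued.v (R := PadicAlgCl p)).Integers O :=
    ⟨Subtype.val_injective, fun x => x.2, fun {x} hx => ⟨⟨x, hx⟩, rfl⟩⟩
  have hsplit := IsAlgClosed.splits (P.map (algebraMap ℤ (PadicAlgCl p)))
  set R := P.aroots (PadicAlgCl p) with hR
  have hint : ∀ z ∈ R, z ∈ O := fun z hz => by
    have h1 : IsIntegral ℤ z := ⟨P, hP, by simpa [aeval_def] using (mem_aroots.1 hz).2⟩
    obtain ⟨y, rfl⟩ := IsIntegrallyClosed.isIntegral_iff.1 (h1.tower_top (A := O))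
    exact y.2
  set R' : Multiset O := R.pmap (fun z hz => ⟨z, hz⟩) hint with hR'
  have hRR : R = R'.map Subtype.val := by
    rw [hR', Multiset.map_pmap]
    exact (Multiset.pmap_eq_map ..).trans (Multiset.map_id' _) |>.symm
  have hPO : P.map (algebraMap ℤ O) = (R'.map fun z => X - C z).prod := by
    apply Polynomial.map_injective O.subtype Subtype.val_injective
    rw [Polynomial.map_map, RingHom.ext_int (O.subtype.comp (algebraMap ℤ O)) (algebraMap ℤ _),
      hsplit.eq_prod_roots_of_monic (hP.map _), ← aroots, ← hR, hRR, Polynomial.map_multiset_prod,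
      Multiset.map_map, Multiset.map_map]
    exact congrArg Multiset.prod (Multiset.map_congr rfl fun z _ => by simp)
  have hPk : P.map (algebraMap ℤ k) = ((R'.map (IsLocalRing.residue O)).map fun z => X - C z).prod := by
    rw [RingHom.ext_int (algebraMap ℤ k) ((IsLocalRing.residue O).comp (algebraMap ℤ O)), ← Polynomial.map_map,
      hPO, Polynomial.map_multiset_prod, Multiset.map_map, Multiset.map_map]
    exact congrArg Multiset.prod (Multiset.map_congr rfl fun z _ => by simp)
  have hcharp : CharP k p := by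
    refine (CharP.charP_iff_prime_eq_zero Fact.out).2 ?_
    rw [← map_natCast (IsLocalRing.residue O), IsLocalRing.residue_eq_zero_iff, IsLocalRing.mem_maximalIdeal,
      mem_nonunits_iff, hvO.isUnit_iff_valuation_eq_one]
    show Valued.v (((p : O) : PadicAlgCl p)) ≠ 1
    rw [show (((p : O) : PadicAlgCl p)) = (p : PadicAlgCl p) from map_natCast O.subtype p, PadicAlgCl.valuation_p,
      one_div, ne_eq, inv_eq_one, Nat.cast_eq_one]
    exact (Fact.out : p.Prime).ne_one
  have hlow : low p P = (P.map (algebraMap ℤ k)).natTrailingDegree := by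
    rw [RingHom.ext_int (algebraMap ℤ k) ((ZMod.castHom (dvd_refl p) k).comp (Int.castRingHom (ZMod p))),
      ← Polynomial.map_map, low]
    simp only [natTrailingDegree, trailingDegree,
      support_map_of_injective _ (ZMod.castHom (dvd_refl p) k).injective]
  have hcard : P.natDegree = R'.card := by
    rw [hR', Multiset.card_pmap, hR, aroots, ← hsplit.natDegree_eq_card_roots, hP.natDegree_map]
  rw [hlow, ← rootMultiplicity_eq_natTrailingDegree', ← count_roots, hPk, roots_multiset_prod_X_sub_C,
    Multiset.count_map, hRR, Multiset.filter_map, Multiset.card_map, hcard, ← Multiset.card_add]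
  conv_rhs => rw [← Multiset.filter_add_not (fun z : O => ‖(z : PadicAlgCl p)‖ = 1) R']
  refine congrArg Multiset.card (congrArg₂ (· + ·) rfl (Multiset.filter_congr fun z _ => ?_))
  rw [eq_comm, IsLocalRing.residue_eq_zero_iff, IsLocalRing.mem_maximalIdeal, mem_nonunits_iff,
    hvO.isUnit_iff_valuation_eq_one, not_iff_not]
  show Valued.v (z : PadicAlgCl p) = 1 ↔ _
  rw [PadicAlgCl.valuation_def, ← NNReal.coe_eq_one, coe_nnnorm]

variable {e : ℕ}

theorem intCast_dvd_pow (he : 0 < e) : (((p : ℤ) ^ e : ℤ) : ZMod p) = 0 := by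
  rw [Int.cast_pow, Int.cast_natCast, ZMod.natCast_self, zero_pow he.ne']

theorem le_low {P : ℤ[X]} (hw : IsWeilPoly ((p : ℤ) ^ e) P) (he : 0 < e) {D : ℕ} (hD : P.natDegree = 2 * D) :
    D ≤ low p P ∧ (low p P = D ↔ ¬ (p : ℤ) ∣ P.coeff D) := by
  have hq : (p : ℤ) ^ e ≠ 0 := pow_ne_zero _ (by exact_mod_cast (Fact.out : p.Prime).ne_zero)
  obtain ⟨ε, -, hε⟩ := hw.coeff_zero hq D hD
  set Q := P.map (Int.castRingHom (ZMod p)) with hQ
  have hQ0 : Q ≠ 0 := (hw.1.map _).ne_zero
  have hlt : ∀ j < D, Q.coeff j = 0 := fun j hj => by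
    rw [hQ, coeff_map, show j = D - (D - j) by omega, hw.coeff_low hq D hD hε (D - j) (by omega), eq_intCast,
      Int.cast_mul, Int.cast_mul, Int.cast_pow, intCast_dvd_pow p he, zero_pow (by omega), mul_zero, zero_mul]
  have hle : D ≤ low p P := le_natTrailingDegree hQ0 hlt
  refine ⟨hle, ?_⟩
  have hdvd : (p : ℤ) ∣ P.coeff D ↔ Q.coeff D = 0 := by
    rw [hQ, coeff_map, eq_intCast, ZMod.intCast_zmod_eq_zero_iff_dvd]
  rw [hdvd]
  constructor
  · intro h h0
    have : Q.trailingCoeff = 0 := by
      rw [trailingCoeff, show Q.natTrailingDegree = D from h]; exact h0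
    exact hQ0 (trailingCoeff_eq_zero.1 this)
  · exact fun h => le_antisymm (natTrailingDegree_le_of_ne_zero h) hle

open scoped Classical in
theorem ordinary_iff {P : ℤ[X]} (hw : IsWeilPoly ((p : ℤ) ^ e) P) (he : 0 < e) {D : ℕ}
    (hD : P.natDegree = 2 * D) :
    2 * Multiset.card ((P.aroots (PadicAlgCl p)).filter fun z => ‖z‖ = 1) = P.natDegree ↔
      ¬ (p : ℤ) ∣ P.coeff D := by
  rw [← (le_low p hw he hD).2]
  have := card_unit_roots p hw.1
  omega

theorem not_dvd_coeff_prod_iff {ι : Type*} [Fintype ι] {P : ι → ℤ[X]} (hw : ∀ i, IsWeilPoly ((p : ℤ) ^ e) (P i))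
    (he : 0 < e) {d : ι → ℕ} (hd : ∀ i, (P i).natDegree = 2 * d i) :
    ¬ (p : ℤ) ∣ (∏ i, P i).coeff (∑ i, d i) ↔ ∀ i, ¬ (p : ℤ) ∣ (P i).coeff (d i) := by
  classical
  have hD : (∏ i, P i).natDegree = 2 * ∑ i, d i := by
    rw [natDegree_prod_of_monic _ _ fun i _ => (hw i).1, Finset.mul_sum]
    exact Finset.sum_congr rfl fun i _ => hd i
  rw [← (le_low p (IsWeilPoly.prod hw) he hD).2]
  have hsum : ∀ s : Finset ι, low p (∏ i ∈ s, P i) = ∑ i ∈ s, low p (P i) := by
    intro s
    induction s using Finset.induction with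
    | empty => simp [low]
    | insert a s ha ih =>
      rw [Finset.prod_insert ha, Finset.sum_insert ha, ← ih, low, Polynomial.map_mul,
        natTrailingDegree_mul ((hw a).1.map _).ne_zero
          ((monic_prod_of_monic _ _ fun i _ => (hw i).1).map _).ne_zero]
      rfl
  rw [hsum]
  have hle := fun i => (le_low p (hw i) he (hd i)).1
  rw [eq_comm, Finset.sum_eq_sum_iff_of_le fun i _ => hle i]
  exact ⟨fun h i => (le_low p (hw i) he (hd i)).2.1 (h i (Finset.mem_univ i)).symm,
    fun h i _ => ((le_low p (hw i) he (hd i)).2.2 (h i)).symm⟩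

end Groth.Agent.WeilNumLib
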