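import Groth.Agent.WeilNumLib.Central
import Groth.Agent.WeilNumLib.Ordinary
import Groth.Agent.WeilNumLib.Gor
import Mathlib.RingTheory.LocalRing.RingHom.Basic
import Mathlib.RingTheory.Ideal.Quotient.Operations
import Mathlib.RingTheory.Polynomial.Quotient

/-!
The minimal central order of Weil numbers enlarged by one rational Weil number.
-/

set_option autoImplicit false
set_option maxHeartbeats 2000000
set_option synthInstance.maxHeartbeats 400000

universe u

open MvPolynomial IsLocalRing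

namespace Groth.Agent.WeilNumLib

local notation "R₂" => MvPolynomial (Fin 2) ℤ

/-- Trivial relations of a pair `(a, b)` with `a` prime, `a ∤ b`. -/
theorem rel_pair {A : Type u} [CommRing A] [IsDomain A] {a b : A} (ha : Prime a) (hb : ¬ a ∣ b)
    (u : Fin 2 → A) (hu : DefGlueLib.dot ![a, b] u = 0) : u ∈ DefGlueLib.trivR ![a, b] := by
  rw [DefGlueLib.dot_apply, Fin.sum_univ_two] at hu
  simp only [Matrix.cons_val_zero, Matrix.cons_val_one] at hu
  obtain ⟨t, ht⟩ := (ha.dvd_or_dvd (a := u 1) (b := b) ⟨-u 0, by linear_combination hu⟩).resolve_right hb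
  have h0 : u 0 = -(b * t) := mul_right_cancel₀ ha.ne_zero (by rw [ht] at hu; linear_combination hu)
  have : u = t • ((![a, b] 0) • Pi.single 1 (1 : A) - (![a, b] 1) • Pi.single 0 (1 : A)) := by
    funext i
    fin_cases i <;> simp [h0, ht] <;> ring
  rw [this]
  exact Submodule.smul_mem _ _ (Submodule.subset_span ⟨(1, 0), rfl⟩)

/-- Gorenstein at a prime where, after inverting `g`, the kernel is generated by a pair `(a, b)`. -/
theorem gorenstein_atPrime_pair {R : Type u} [CommRing R] (f : R₂ →+* R) (hf : Function.Surjective f)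
    (P : Ideal R) [P.IsPrime] {g a b : R₂} (hg : f g ∉ P) (ha : Prime a) (hb : ¬ a ∣ b)
    (h1 : f (g * a) = 0) (h2 : f (g * b) = 0) (h3 : ∀ x, f x = 0 → g * x ∈ Ideal.span {a, b}) :
    LocCoh.IsGorensteinLocalRing (Localization.AtPrime P) := by
  haveI := gorensteinRing_RU.{u}
  set π : RU.{u} →+* R := f.comp lower.toRingHom with hπdef
  have hπ : Function.Surjective π := show Function.Surjective (f ∘ lower.{u}) from hf.comp lower.{u}.surjective
  set g' : RU.{u} := lower.symm g with hg'
  set R' := Localization.Away g'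
  have hpr : Prime (lower.{u}.symm a) := (MulEquiv.prime_iff (lower.{u}).symm.toMulEquiv).2 ha
  have hndvd : ¬ lower.{u}.symm a ∣ lower.{u}.symm b := fun h => hb (by simpa using map_dvd lower.{u} h)
  refine LC.gorenstein_atPrime_of_rel π hπ P (Submonoid.powers g') ?_ R'
    (fun i => algebraMap RU.{u} R' ((![lower.symm a, lower.symm b]) i))
    (fun u hu => LC.rel_localize (Submonoid.powers g') _ (rel_pair hpr hndvd) u hu) ?_
  · rintro _ ⟨k, rfl⟩
    rw [map_pow]
    intro hk
    refine hg ?_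
    have := ‹P.IsPrime›.mem_of_pow_mem k hk
    rwa [hπdef, RingHom.comp_apply, hg', RingEquiv.toRingHom_eq_coe, RingHom.coe_coe,
      RingEquiv.apply_symm_apply] at this
  have hu : IsUnit (algebraMap RU.{u} R' g') := IsLocalization.Away.algebraMap_isUnit g'
  apply le_antisymm
  · rw [Ideal.span_le]
    rintro _ ⟨i, rfl⟩
    show algebraMap RU.{u} R' (![lower.symm a, lower.symm b] i) ∈ _
    rw [← hu.unit.inv_mul_cancel_left (algebraMap RU.{u} R' (![lower.symm a, lower.symm b] i))]
    refine Ideal.mul_mem_left _ _ ?_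
    show algebraMap RU.{u} R' g' * _ ∈ _
    rw [← map_mul]
    refine Ideal.mem_map_of_mem _ ?_
    rw [RingHom.mem_ker]
    fin_cases i <;> simpa [hπdef, hg', map_mul] using (by assumption : f (g * _) = 0)
  · rw [Ideal.map_le_iff_le_comap]
    intro x hx
    obtain ⟨c, d, hcd⟩ := Ideal.mem_span_pair.1 (h3 (lower x) hx)
    rw [Ideal.mem_comap, ← hu.unit.inv_mul_cancel_left (algebraMap RU.{u} R' x)]
    refine Ideal.mul_mem_left _ _ ?_
    show algebraMap RU.{u} R' g' * _ ∈ _
    have e : g' * x = lower.symm c * lower.symm a + lower.symm d * lower.symm b := by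
      apply lower.{u}.injective
      simp [hg', hcd]
    rw [← map_mul, e, map_add, map_mul, map_mul]
    exact add_mem (Ideal.mul_mem_left _ _ (Ideal.subset_span ⟨0, rfl⟩))
      (Ideal.mul_mem_left _ _ (Ideal.subset_span ⟨1, rfl⟩))

theorem sub_C_mem_span (g : R₂) (s : ℤ) :
    g - C (eval ![s, s] g) ∈ Ideal.span {X 0 - C s, X 1 - C s} := by
  induction g using MvPolynomial.induction_on with
  | C c => simp
  | add a b ha hb =>
    rw [map_add, map_add, add_sub_add_comm]
    exact add_mem ha hb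
  | mul_X a n ha =>
    have hn : X n - C s ∈ Ideal.span {X 0 - C s, (X 1 - C s : R₂)} := by
      fin_cases n <;> exact Ideal.subset_span (by simp)
    rw [map_mul, eval_X, map_mul, show ![s, s] n = s by fin_cases n <;> rfl,
      show a * X n - C (eval ![s, s] a) * C s =
        (a - C (eval ![s, s] a)) * X n + C (eval ![s, s] a) * (X n - C s) by ring]
    exact add_mem (Ideal.mul_mem_right _ _ ha) (Ideal.mul_mem_left _ _ hn)

theorem exists_sub_constantCoeff (g : R₂) :
    ∃ x y : R₂, g = x * X 0 + y * X 1 + C (constantCoeff g) := by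
  have := sub_C_mem_span g 0
  simp only [map_zero, sub_zero] at this
  obtain ⟨x, y, hxy⟩ := Ideal.mem_span_pair.1 this
  refine ⟨x, y, ?_⟩
  rw [show constantCoeff g = eval ![(0 : ℤ), 0] g by
    rw [show (![(0 : ℤ), 0] : Fin 2 → ℤ) = 0 from funext fun n => by fin_cases n <;> rfl, MvPolynomial.eval_zero]]
  linear_combination -hxy

variable {ι : Type} [Fintype ι] {K : ι → Type u} [∀ i, Field (K i)] [∀ i, CharZero (K i)] (π : ∀ i, K i)

/-- Nonrational Weil numbers for a square `q` have no real conjugates. -/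
theorem nonreal_of_deg {K : Type u} [Field K] [CharZero K] {π : K} (hπ : IsIntegral ℤ π) {q s : ℤ}
    (hs : s ^ 2 = q) (hw : IsWeilPoly q (minpoly ℤ π)) (hdeg : (minpoly ℤ π).natDegree ≠ 1) :
    ∀ z ∈ (minpoly ℤ π).aroots ℂ, z.im ≠ 0 := by
  intro z hz him
  refine hdeg ?_
  have h1 : z * z = (q : ℂ) := by
    have := hw.2 z hz
    rwa [Complex.conj_eq_iff_im.2 him] at this
  have key : ∀ t : ℤ, z = (t : ℂ) → (minpoly ℤ π).natDegree = 1 := fun t ht => by
    have h2 := (Polynomial.mem_aroots.1 hz).2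
    rw [ht, ← eq_intCast (algebraMap ℤ ℂ), Polynomial.aeval_algebraMap_apply_eq_algebraMap_eval] at h2
    have h3 : Polynomial.X - Polynomial.C t ∣ minpoly ℤ π :=
      Polynomial.dvd_iff_isRoot.2 ((algebraMap ℤ ℂ).injective_int (by simpa using h2))
    rw [← Polynomial.eq_of_monic_of_associated (Polynomial.monic_X_sub_C t) (minpoly.monic hπ)
      ((Polynomial.irreducible_X_sub_C t).associated_of_dvd (minpoly.irreducible hπ) h3), Polynomial.natDegree_X_sub_C]
  rcases eq_or_eq_neg_of_sq_eq_sq z (s : ℂ) (by rw [sq, h1, ← hs]; push_cast; rfl) with h | h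
  · exact key s h
  · exact key (-s) (by rw [h]; push_cast; rfl)

/-- `F ↦ (π, s)`, `V ↦ (q/π, s)`. -/
noncomputable def evS (q s : ℤ) : R₂ →ₐ[ℤ] ((i : ι) → K i) × ℚ :=
  (ev π q).prod (aeval ![(s : ℚ), (s : ℚ)])

theorem evS_natPow (p e : ℕ) (s : ℤ) : evS π ((p : ℤ) ^ e) s =
    MvPolynomial.aeval ![(⟨fun i => π i, (s : ℚ)⟩ : ((i : ι) → K i) × ℚ), ⟨fun i => ((p : K i) ^ e) / π i, (s : ℚ)⟩] := by
  refine MvPolynomial.algHom_ext fun n => ?_
  rw [evS, ev_natPow]
  fin_cases n <;> simp

variable {π} {q s : ℤ} {D : ℕ}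

theorem eval_h_ne_zero (hf : Family π q D) (hs : s ^ 2 = q) (hdeg : ∀ i, (minpoly ℤ (π i)).natDegree ≠ 1) {h : R₂}
    (hh : X 0 ^ D * h - Polynomial.aeval (X 0 : R₂) (∏ i, minpoly ℤ (π i)) ∈ Ideal.span {fvq q}) :
    eval ![s, s] h ≠ 0 := fun h0 => by
  obtain ⟨c, hc⟩ := Ideal.mem_span_singleton.1 hh
  have h1 := congrArg (eval ![s, s]) hc
  have ha : eval ![s, s] (fvq q) = 0 := by simp [fvq, ← hs, sq]
  rw [map_mul _ (fvq q), ha, zero_mul, map_sub, map_mul, h0, mul_zero, zero_sub, neg_eq_zero] at h1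
  have h2 : Polynomial.aeval (eval ![s, s] (X 0 : R₂)) (∏ i, minpoly ℤ (π i)) = 0 := by
    rw [← h1]
    exact Polynomial.aeval_algHom_apply (MvPolynomial.aeval (R := ℤ) ![s, s]) _ _
  rw [eval_X, Matrix.cons_val_zero, map_prod, Finset.prod_eq_zero_iff] at h2
  obtain ⟨i, -, hi⟩ := h2
  refine hdeg i ?_
  have h5 : Associated (Polynomial.X - Polynomial.C s) (minpoly ℤ (π i)) :=
    (Polynomial.irreducible_X_sub_C s).associated_of_dvd (minpoly.irreducible (hf.int i))
      (Polynomial.dvd_iff_isRoot.2 (by simpa [Polynomial.coe_aeval_eq_eval] using hi))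
  rw [← Polynomial.eq_of_monic_of_associated (Polynomial.monic_X_sub_C s) (minpoly.monic (hf.int i)) h5,
    Polynomial.natDegree_X_sub_C]

theorem ker_evS (hf : Family π q D) (hs : s ^ 2 = q) (hdeg : ∀ i, (minpoly ℤ (π i)).natDegree ≠ 1) {h : R₂}
    (hh : X 0 ^ D * h - Polynomial.aeval (X 0 : R₂) (∏ i, minpoly ℤ (π i)) ∈ Ideal.span {fvq q}) :
    RingHom.ker (evS π q s) = Ideal.span {fvq q, h * (X 0 - C s), h * (X 1 - C s)} := by
  have he : ∀ g, evS π q s g = 0 ↔ ev π q g = 0 ∧ eval ![s, s] g = 0 := fun g => by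
    rw [evS, AlgHom.prod_apply, Prod.mk_eq_zero]
    refine and_congr Iff.rfl ?_
    rw [show aeval ![(s : ℚ), (s : ℚ)] g = algebraMap ℤ ℚ (eval ![s, s] g) by
      have : (Algebra.ofId ℤ ℚ).comp (aeval (R := ℤ) ![s, s]) = aeval (R := ℤ) ![(s : ℚ), (s : ℚ)] := by
        refine MvPolynomial.algHom_ext fun n => ?_
        fin_cases n <;> simp
      exact (AlgHom.congr_fun this g).symm]
    exact ⟨fun h => (algebraMap ℤ ℚ).injective_int (by rw [h, map_zero]), fun h => by rw [h, map_zero]⟩
  refine le_antisymm (fun g hg => ?_) ?_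
  · obtain ⟨h1, h2⟩ := (he g).1 hg
    have h1' : g ∈ RingHom.ker (ev π q) := h1
    rw [hf.ker_ev hh] at h1'
    obtain ⟨a, b, rfl⟩ := Ideal.mem_span_pair.1 h1'
    have hb : eval ![s, s] b = 0 := by
      rw [map_add, map_mul, map_mul, show eval ![s, s] (fvq q) = 0 by simp [fvq, ← hs, sq], mul_zero,
        zero_add] at h2
      exact (mul_eq_zero.1 h2).resolve_right (eval_h_ne_zero hf hs hdeg hh)
    have := sub_C_mem_span b s
    rw [hb, map_zero, sub_zero] at this
    obtain ⟨c, d, rfl⟩ := Ideal.mem_span_pair.1 this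
    refine add_mem (Ideal.mul_mem_left _ _ (Ideal.subset_span (by simp))) ?_
    rw [add_mul, mul_assoc, mul_assoc, mul_comm (X 0 - C s) h, mul_comm (X 1 - C s) h]
    exact add_mem (Ideal.mul_mem_left _ _ (Ideal.subset_span (by simp)))
      (Ideal.mul_mem_left _ _ (Ideal.subset_span (by simp)))
  · rw [Ideal.span_le]
    have hv : ev π q h = 0 := ev_h hf hh
    rintro x (rfl | rfl | rfl)
    · exact (he _).2 ⟨ev_fvq hf, by simp [fvq, ← hs, sq]⟩
    all_goals exact (he _).2 ⟨by rw [map_mul, hv, zero_mul], by simp⟩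

theorem constantCoeff_h (hf : Family π q D) {h : R₂}
    (hh : X 0 ^ D * h - Polynomial.aeval (X 0 : R₂) (∏ i, minpoly ℤ (π i)) ∈ Ideal.span {fvq q}) :
    q ∣ constantCoeff h - (∏ i, minpoly ℤ (π i)).coeff D := by
  obtain ⟨ε, -, hε⟩ := hf.exists_sign
  obtain ⟨c, hc⟩ := dvd_sub_hStd hf.natDegree_prod (IsWeilPoly.prod hf.weil) hf.q0 hε hh
  have h1 := congrArg constantCoeff hc
  have h2 : constantCoeff (hStd (∏ i, minpoly ℤ (π i)) D ε) = (∏ i, minpoly ℤ (π i)).coeff D := by
    simp [hStd]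
  rw [map_sub, h2, map_mul, show constantCoeff (fvq q) = -q by simp [fvq]] at h1
  rw [h1]
  exact Dvd.dvd.mul_right (dvd_neg.2 dvd_rfl) _

variable {p e : ℕ} [Fact p.Prime]

theorem gorenstein_of_ordinary (hf : Family π q D) (hs : s ^ 2 = q) (hq : q = (p : ℤ) ^ e) (he : 0 < e)
    (hdeg : ∀ i, (minpoly ℤ (π i)).natDegree ≠ 1) {h : R₂}
    (hh : X 0 ^ D * h - Polynomial.aeval (X 0 : R₂) (∏ i, minpoly ℤ (π i)) ∈ Ideal.span {fvq q})
    (hord : ¬ (p : ℤ) ∣ (∏ i, minpoly ℤ (π i)).coeff D) :
    LocCoh.IsGorensteinRing (evS π q s).range := by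
  set f : R₂ →+* (evS π q s).range := (evS π q s).rangeRestrict.toRingHom
  have hsurj : Function.Surjective f := AlgHom.rangeRestrict_surjective _
  have hker : ∀ x, f x = 0 ↔ x ∈ Ideal.span {fvq q, h * (X 0 - C s), h * (X 1 - C s)} := fun x => by
    rw [← ker_evS hf hs hdeg hh, RingHom.mem_ker]
    exact ⟨congrArg Subtype.val, fun h => Subtype.ext h⟩
  have hg : ∀ x ∈ ({fvq q, h * (X 0 - C s), h * (X 1 - C s)} : Set R₂), f x = 0 := fun x hx =>
    (hker x).2 (Ideal.subset_span hx)
  have hg' : ∀ c, ∀ x ∈ ({fvq q, h * (X 0 - C s), h * (X 1 - C s)} : Set R₂), f (c * x) = 0 := fun c x hx => by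
    rw [map_mul f c x, hg x hx, mul_zero]
  haveI : IsNoetherianRing (evS π q s).range := isNoetherianRing_of_surjective _ _ f hsurj
  have hp1 : 1 < (p : ℤ) := by exact_mod_cast (Fact.out : p.Prime).one_lt
  have hqp : (p : ℤ) ∣ q := by rw [hq]; exact dvd_pow_self _ he.ne'
  have hq1 : 1 < q := by rw [hq]; exact one_lt_pow₀ hp1 he.ne'
  have hnd : ∀ n : Fin 2, ¬ fvq q ∣ X n - C s := fun n => by
    rintro ⟨c, hc⟩
    have hsq : q - s ≠ 0 := fun h0 => by
      rw [sub_eq_zero] at h0
      subst h0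
      rcases mul_left_eq_self₀.1 (by rw [← sq, hs] : q * q = q) with h | h <;> omega
    fin_cases n
    · have := congrArg (eval ![q, 1]) hc
      simp [fvq] at this
      exact hsq this
    · have := congrArg (eval ![1, q]) hc
      simp [fvq] at this
      exact hsq this
  have hprod : ∀ n : Fin 2, ¬ fvq q ∣ h * (X n - C s) := fun n hd =>
    ((prime_fvq hf.q0).dvd_or_dvd hd).elim (not_dvd_h hf.monic_prod.ne_zero hh) (hnd n)
  refine LC.gorensteinRing_of_atPrime fun P _ => ?_
  by_cases hPh : f h ∈ P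
  · by_cases hPF : f (X 0) ∈ P
    · by_cases hPV : f (X 1) ∈ P
      · exfalso
        have h1 : f (C q) ∈ P := by
          have := hg (fvq q) (by simp)
          rw [fvq, map_sub, sub_eq_zero, map_mul] at this
          rw [← this]
          exact P.mul_mem_left _ hPV
        have h2 : f (C (p : ℤ)) ∈ P := by
          refine ‹P.IsPrime›.mem_of_pow_mem e ?_
          rwa [← map_pow, ← map_pow, ← hq]
        obtain ⟨c, hc⟩ := constantCoeff_h hf hh
        have h3 : f (C (constantCoeff h)) ∈ P := by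
          obtain ⟨x, y, hxy⟩ := exists_sub_constantCoeff h
          rw [show C (constantCoeff h) = h - (x * X 0 + y * X 1) by linear_combination -hxy, map_sub]
          refine sub_mem hPh ?_
          rw [map_add, map_mul, map_mul]
          exact add_mem (P.mul_mem_left _ hPF) (P.mul_mem_left _ hPV)
        have hnd' : ¬ (p : ℤ) ∣ constantCoeff h := fun hd => hord (by
          rw [show (∏ i, minpoly ℤ (π i)).coeff D = constantCoeff h - q * c by rw [← hc]; ring]
          exact dvd_sub hd (hqp.mul_right _))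
        obtain ⟨a, b, hab⟩ := (Nat.prime_iff_prime_int.1 (Fact.out : p.Prime)).coprime_iff_not_dvd.2 hnd'
        refine ‹P.IsPrime›.ne_top ((Ideal.eq_top_iff_one _).2 ?_)
        have h4 : f (C (a * p + b * constantCoeff h)) ∈ P := by
          rw [map_add, map_add, map_mul, map_mul, map_mul, map_mul]
          exact add_mem (P.mul_mem_left _ h2) (P.mul_mem_left _ h3)
        rwa [hab, map_one, map_one] at h4
      · refine gorenstein_atPrime_pair f hsurj P hPV (prime_fvq hf.q0) (hprod 1)
          (hg' _ _ (by simp)) (hg' _ _ (by simp)) fun x hx => ?_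
        obtain ⟨a, y, hy, rfl⟩ := Ideal.mem_span_insert.1 ((hker x).1 hx)
        obtain ⟨b, c, rfl⟩ := Ideal.mem_span_pair.1 hy
        refine Ideal.mem_span_pair.2 ⟨X 1 * a + b * h, X 1 * c - b * C s, ?_⟩
        rw [show fvq q = X 0 * X 1 - C s * C s by rw [fvq, ← hs, sq, map_mul]]
        ring
    · refine gorenstein_atPrime_pair f hsurj P hPF (prime_fvq hf.q0) (hprod 0)
        (hg' _ _ (by simp)) (hg' _ _ (by simp)) fun x hx => ?_
      obtain ⟨a, y, hy, rfl⟩ := Ideal.mem_span_insert.1 ((hker x).1 hx)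
      obtain ⟨b, c, rfl⟩ := Ideal.mem_span_pair.1 hy
      refine Ideal.mem_span_pair.2 ⟨X 0 * a + c * h, X 0 * b - c * C s, ?_⟩
      rw [show fvq q = X 0 * X 1 - C s * C s by rw [fvq, ← hs, sq, map_mul]]
      ring
  · have hpr : Prime (X 0 - C s : R₂) := by
      rw [← irreducible_iff_prime, show (X 0 - C s : R₂) = 1 * X 0 + C (-s) by rw [map_neg]; ring]
      exact irreducible_mul_X_add _ _ 0 one_ne_zero (by simp) (by rw [vars_C]; simp) isRelPrime_one_left
    refine gorenstein_atPrime_pair f hsurj P hPh hpr (b := X 1 - C s) ?_ (hg (h * (X 0 - C s)) (by simp))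
      (hg (h * (X 1 - C s)) (by simp)) fun x hx => ?_
    · rintro ⟨c, hc⟩
      simpa using congrArg (eval ![s, s + 1]) hc
    · obtain ⟨a, y, hy, rfl⟩ := Ideal.mem_span_insert.1 ((hker x).1 hx)
      obtain ⟨b, c, rfl⟩ := Ideal.mem_span_pair.1 hy
      refine Ideal.mem_span_pair.2 ⟨h * (a * X 1 + b * h), h * (a * C s + c * h), ?_⟩
      rw [show fvq q = X 0 * X 1 - C s * C s by rw [fvq, ← hs, sq, map_mul]]
      ring

/-- A test homomorphism killing one axis. -/
noncomputable def axis (p r : ℕ) (n : Fin 2) : R₂ →+* Polynomial (ZMod p) ⧸ Ideal.span {(Polynomial.X : Polynomial (ZMod p)) ^ (r + 1)} :=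
  (aeval (R := ℤ) fun m => if m = n then Ideal.Quotient.mk _ Polynomial.X else 0).toRingHom

theorem ordinary_aux (hf : Family π q D) (hs : s ^ 2 = q) (hq : q = (p : ℤ) ^ e) (he : 0 < e)
    (hdeg : ∀ i, (minpoly ℤ (π i)).natDegree ≠ 1) {h : R₂}
    (hh : MvPolynomial.X 0 ^ D * h - Polynomial.aeval (MvPolynomial.X 0 : R₂) (∏ i, minpoly ℤ (π i)) ∈
      Ideal.span {fvq q})
    {R : Type u} [CommRing R] (f : R₂ →+* R) (hsurj : Function.Surjective f)
    (hkerf : RingHom.ker f = Ideal.span {fvq q, h * (MvPolynomial.X 0 - MvPolynomial.C s),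
      h * (MvPolynomial.X 1 - MvPolynomial.C s)}) (hpreg : IsSMulRegular R (p : R))
    (hG : LocCoh.IsGorensteinRing R) :
    ¬ (p : ℤ) ∣ (∏ i, minpoly ℤ (π i)).coeff D := by
  classical
  intro hdvd
  set P := ∏ i, minpoly ℤ (π i) with hP
  obtain ⟨ε, hε1, hε⟩ := hf.exists_sign
  have hpp : (p : ℤ).natAbs.Prime := by simpa using (Fact.out : p.Prime)
  have hD0 : 0 < D := by
    rcases Nat.eq_zero_or_pos D with rfl | h0
    · exfalso
      have : P.coeff 0 = 1 := by
        have h1 := hf.monic_prod.coeff_natDegree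
        rwa [← hP, hf.natDegree_prod] at h1
      rw [this] at hdvd
      exact (Nat.prime_iff_prime_int.1 (Fact.out : p.Prime)).not_dvd_one hdvd
    · exact h0
  have hex : ∃ r, 0 < r ∧ r ≤ D ∧ ¬ (p : ℤ) ∣ P.coeff (D + r) := ⟨D, hD0, le_rfl, by
    rw [show D + D = P.natDegree by rw [hP, hf.natDegree_prod]; omega, hf.monic_prod.coeff_natDegree]
    exact (Nat.prime_iff_prime_int.1 (Fact.out : p.Prime)).not_dvd_one⟩
  obtain ⟨hr0, hrD, hra⟩ := Nat.find_spec hex
  set r := Nat.find hex
  have hlow : ∀ j, 0 < j → j < r → (p : ℤ) ∣ P.coeff (D + j) := fun j h1 h2 => by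
    by_contra h3
    exact Nat.find_min hex h2 ⟨h1, by omega, h3⟩
  have hps : (p : ℤ) ∣ s := (Nat.prime_iff_prime_int.1 (Fact.out : p.Prime)).dvd_of_dvd_pow
    (hs ▸ hq ▸ dvd_pow_self (p : ℤ) he.ne')
  have hpq : (p : ℤ) ∣ q := hq ▸ dvd_pow_self (p : ℤ) he.ne'
  -- the test rings
  let T := Polynomial (ZMod p) ⧸ Ideal.span {(Polynomial.X : Polynomial (ZMod p)) ^ (r + 1)}
  let t : T := Ideal.Quotient.mk _ Polynomial.X
  have ht : t ^ r ≠ 0 := fun h0 => by
    rw [← map_pow, Ideal.Quotient.eq_zero_iff_mem, Ideal.mem_span_singleton] at h0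
    have := Polynomial.natDegree_le_of_dvd h0 (pow_ne_zero _ Polynomial.X_ne_zero)
    simp at this
  have ht1 : t ^ (r + 1) = 0 := by
    rw [← map_pow, Ideal.Quotient.eq_zero_iff_mem]
    exact Ideal.mem_span_singleton_self _
  have hZ : ∀ z : ℤ, (p : ℤ) ∣ z → (z : T) = 0 := fun z hz => by
    show ((z : ℤ) : Polynomial (ZMod p) ⧸ Ideal.span {(Polynomial.X : Polynomial (ZMod p)) ^ (r + 1)}) = 0
    rw [← map_intCast (Ideal.Quotient.mk (Ideal.span {(Polynomial.X : Polynomial (ZMod p)) ^ (r + 1)})),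
      ← map_intCast (Polynomial.C (R := ZMod p)),
      (ZMod.intCast_zmod_eq_zero_iff_dvd z p).2 hz, map_zero, map_zero]
  have hax : ∀ n m, axis p r n (MvPolynomial.X m) = if m = n then t else 0 := fun n m => by
    simp [axis, t]
  have haxC : ∀ n z, axis p r n (MvPolynomial.C z) = (z : T) := fun n z => by simp [axis]
  have hkerax : ∀ n, RingHom.ker f ≤ RingHom.ker (axis p r n) := fun n => by
    rw [hkerf, Ideal.span_le]
    obtain ⟨c, hc⟩ := dvd_sub_hStd hf.natDegree_prod (IsWeilPoly.prod hf.weil) hf.q0 hε hh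
    have ha : axis p r n (fvq q) = 0 := by
      rw [fvq, map_sub, map_mul, hax, hax, haxC, hZ q hpq, sub_zero]
      fin_cases n <;> simp
    have hh' : ∃ c, axis p r n h = t ^ r * c := by
      rw [show h = hStd P D ε + fvq q * c by rw [← hc]; ring, map_add, map_mul, ha, zero_mul, add_zero,
        hStd, map_add, haxC, hZ _ hdvd, zero_add, map_sum]
      rw [← dvd_def]
      refine Finset.dvd_sum fun j _ => ?_
      rcases Nat.lt_or_ge (j + 1) r with hj | hj
      · rw [map_mul, haxC, hZ _ (hlow (j + 1) (by omega) hj), zero_mul]; exact dvd_zero _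
      · rw [map_mul, map_add, map_pow, map_mul, map_pow, hax, hax]
        refine Dvd.dvd.mul_left (dvd_add ?_ (Dvd.dvd.mul_left ?_ _)) _ <;>
          · split_ifs
            · exact pow_dvd_pow t hj
            · rw [zero_pow (by omega)]; exact dvd_zero _
    obtain ⟨c', hc'⟩ := hh'
    rintro x (rfl | rfl | rfl)
    · exact ha
    all_goals
      rw [SetLike.mem_coe, RingHom.mem_ker, map_mul, map_sub, hax, haxC, hZ s hps, sub_zero, hc']
      split_ifs
      · rw [mul_right_comm, ← pow_succ, ht1, zero_mul]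
      · rw [mul_zero]
  -- the singular point
  let ψ : Fin 2 → (R →+* T) := fun n => f.liftOfSurjective hsurj ⟨axis p r n, hkerax n⟩
  have hψ : ∀ n x, ψ n (f x) = axis p r n x := fun n x => f.liftOfSurjective_comp_apply hsurj ⟨_, hkerax n⟩ x
  have hnil : IsNilpotent t := ⟨_, ht1⟩
  have hloc : IsLocalRing T := by
    haveI : Nontrivial T := ⟨⟨t ^ r, 0, ht⟩⟩
    refine IsLocalRing.of_isUnit_or_isUnit_one_sub_self fun a => ?_
    obtain ⟨a, rfl⟩ := Ideal.Quotient.mk_surjective a
    obtain ⟨b, hb⟩ : ∃ b, a = Polynomial.C (a.coeff 0) + Polynomial.X * b := ⟨a.divX, by rw [add_comm, Polynomial.X_mul_divX_add]⟩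
    by_cases h0 : a.coeff 0 = 0
    · right
      refine IsNilpotent.isUnit_one_sub ?_
      rw [hb, h0, map_zero, zero_add, map_mul]
      exact (Commute.all _ _).isNilpotent_mul_right hnil
    · left
      rw [hb, map_add, map_mul]
      exact ((Commute.all _ _).isNilpotent_mul_right hnil).isUnit_add_left_of_commute
        (((isUnit_iff_ne_zero.2 h0).map Polynomial.C).map _) (Commute.all _ _)
  let m := (IsLocalRing.maximalIdeal T).comap (ψ 0)
  haveI : m.IsPrime := Ideal.IsPrime.comap _
  haveI : LocCoh.IsGorensteinLocalRing (Localization.AtPrime m) := hG.isGorensteinLocalRing_localization m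
  have htm : t ∈ IsLocalRing.maximalIdeal T := by
    rw [IsLocalRing.mem_maximalIdeal]; exact hnil.not_isUnit
  have hmax : ∀ n g, axis p r n g - ((MvPolynomial.constantCoeff g : ℤ) : T) ∈ IsLocalRing.maximalIdeal T := fun n g => by
    obtain ⟨x, y, hxy⟩ := exists_sub_constantCoeff g
    rw [show axis p r n g = axis p r n (x * MvPolynomial.X 0 + y * MvPolynomial.X 1 +
      MvPolynomial.C (MvPolynomial.constantCoeff g)) by rw [← hxy], map_add, map_add, map_mul, map_mul, haxC, hax, hax,
      add_sub_cancel_right]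
    refine add_mem (Ideal.mul_mem_left _ _ ?_) (Ideal.mul_mem_left _ _ ?_) <;> split_ifs <;>
      first | exact htm | exact zero_mem _
  have hunit : ∀ n (y : m.primeCompl), IsUnit (ψ n y) := fun n y => by
    by_contra hu
    refine y.2 ?_
    obtain ⟨g, hg⟩ := hsurj y.1
    show ψ 0 y.1 ∈ IsLocalRing.maximalIdeal T
    have h1 : ψ n y.1 ∈ IsLocalRing.maximalIdeal T := hu
    rw [← hg, hψ] at h1 ⊢
    have h2 := sub_mem h1 (hmax n g)
    rw [sub_sub_cancel] at h2
    have h3 := add_mem (hmax 0 g) h2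
    rwa [sub_add_cancel] at h3
  let β : R₂ →+* (Localization.AtPrime m) := (algebraMap _ (Localization.AtPrime m)).comp f
  let χ : Fin 2 → ((Localization.AtPrime m) →+* T) := fun n => IsLocalization.lift (M := m.primeCompl) (hunit n)
  have hχ : ∀ n x, χ n (β x) = axis p r n x := fun n x => by
    show χ n (algebraMap _ (Localization.AtPrime m) (f x)) = _
    rw [IsLocalization.lift_eq, hψ]
  haveI := LC.isNoetherianRing_atPrime (A := R) m
  -- the quotient by `p`
  have hpmem : (p : (Localization.AtPrime m)) ∈ IsLocalRing.maximalIdeal (Localization.AtPrime m) := by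
    rw [IsLocalRing.mem_maximalIdeal]
    intro hu
    have := hu.map (χ 0)
    rw [map_natCast, show ((p : ℕ) : T) = ((p : ℤ) : T) by push_cast; rfl, hZ _ dvd_rfl] at this
    exact not_isUnit_zero this
  have hreg : IsSMulRegular (Localization.AtPrime m) (p : (Localization.AtPrime m)) := by
    haveI : Module.Flat R (Localization.AtPrime m) := IsLocalization.flat _ m.primeCompl
    rw [← map_natCast (algebraMap R (Localization.AtPrime m))]
    exact hpreg.of_flat
  let A := (Localization.AtPrime m) ⧸ Ideal.span {(p : (Localization.AtPrime m))}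
  haveI : IsLocalRing A := by
    haveI : Nontrivial A := Ideal.Quotient.nontrivial_iff.2 fun htop =>
      (IsLocalRing.maximalIdeal.isMaximal (Localization.AtPrime m)).ne_top (top_le_iff.1 (htop ▸ (Ideal.span_singleton_le_iff_mem _).2 hpmem))
    exact .of_surjective' (Ideal.Quotient.mk _) Ideal.Quotient.mk_surjective
  haveI : IsNoetherianRing A := inferInstance
  haveI : LocCoh.IsGorensteinLocalRing A :=
    LC.gorenstein_of_surjective_span_singleton (Ideal.Quotient.mk _) Ideal.Quotient.mk_surjective (x := (p : (Localization.AtPrime m)))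
      hpmem hreg (Ideal.mk_ker (I := Ideal.span {(p : (Localization.AtPrime m))}))
  let α : R₂ →+* A := (Ideal.Quotient.mk (Ideal.span {(p : (Localization.AtPrime m))})).comp β
  have hA : ∀ z : ℤ, (p : ℤ) ∣ z → α (MvPolynomial.C z) = 0 := fun z ⟨c, hc⟩ => by
    rw [hc, map_mul, map_mul]
    refine mul_eq_zero_of_left ?_ _
    show Ideal.Quotient.mk _ (β (MvPolynomial.C (p : ℤ))) = 0
    rw [Ideal.Quotient.eq_zero_iff_mem, map_natCast, map_natCast]
    exact Ideal.mem_span_singleton_self _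
  have hαker : ∀ x ∈ RingHom.ker f, α x = 0 := fun x hx => by
    show Ideal.Quotient.mk _ (algebraMap _ (Localization.AtPrime m) (f x)) = 0
    rw [RingHom.mem_ker.1 hx, map_zero, map_zero]
  have hαF : α (MvPolynomial.X 0) * α (MvPolynomial.X 1) = 0 := by
    have := hαker (fvq q) (hkerf ▸ Ideal.subset_span (by simp))
    rwa [fvq, map_sub, map_mul, hA q hpq, sub_zero] at this
  obtain ⟨c, hc⟩ := dvd_sub_hStd hf.natDegree_prod (IsWeilPoly.prod hf.weil) hf.q0 hε hh
  have hmemA : ∀ n, α (MvPolynomial.X n) ∈ IsLocalRing.maximalIdeal A := fun n => by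
    rw [IsLocalRing.mem_maximalIdeal]
    intro hu'
    haveI := IsLocalHom.of_surjective (Ideal.Quotient.mk (Ideal.span {(p : Localization.AtPrime m)})) Ideal.Quotient.mk_surjective
    have hu : IsUnit (β (MvPolynomial.X n)) := isUnit_of_map_unit (Ideal.Quotient.mk (Ideal.span {(p : Localization.AtPrime m)})) _ hu'
    have := hu.map (χ n)
    rw [hχ, hax, if_pos rfl] at this
    exact hnil.not_isUnit this
  have hpow : ∀ n n' : Fin 2, n ≠ n' → α (MvPolynomial.X n) ^ (r + 1) = 0 := by
    intro n n' hn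
    have h1 : α h * α (MvPolynomial.X n) = 0 := by
      have : h * (MvPolynomial.X n - MvPolynomial.C s) ∈ RingHom.ker f := by
        rw [hkerf]; refine Ideal.subset_span ?_
        fin_cases n <;> simp
      have := hαker _ this
      rwa [map_mul, map_sub, hA s hps, sub_zero] at this
    have hz : α (MvPolynomial.X n) * α (MvPolynomial.X n') = 0 := by
      fin_cases n <;> fin_cases n' <;> first | exact absurd rfl hn | exact hαF | (rw [mul_comm]; exact hαF)
    rw [show h = hStd P D ε + fvq q * c by rw [← hc]; ring, map_add, map_mul, hαker (fvq q)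
      (hkerf ▸ Ideal.subset_span (by simp)), zero_mul, add_zero, hStd, map_add, hA _ hdvd, zero_add, map_sum,
      Finset.sum_mul] at h1
    obtain ⟨δ, hδ, hsum⟩ : ∃ δ : Fin 2 → ℤ, (δ n = 1 ∨ δ n = -1) ∧ ∀ j, α (MvPolynomial.X 0 ^ (j + 1) +
        MvPolynomial.C ε * MvPolynomial.X 1 ^ (j + 1)) * α (MvPolynomial.X n) =
        (δ n : A) * α (MvPolynomial.X n) ^ (j + 2) := by
      refine ⟨![1, ε], by fin_cases n <;> simp [hε1], fun j => ?_⟩
      rw [map_add, map_mul, map_pow, map_pow, add_mul, mul_assoc, pow_succ _ j, pow_succ (α (MvPolynomial.X 1)) j,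
        mul_assoc, mul_assoc]
      have hC : α (MvPolynomial.C ε) = (ε : A) := by
        rw [← MvPolynomial.algebraMap_eq]; exact map_intCast α ε
      fin_cases n <;> fin_cases n' <;> try exact absurd rfl hn
      · simp only [Fin.zero_eta, Fin.mk_one] at hz ⊢
        rw [mul_comm (α (MvPolynomial.X 1)) (α (MvPolynomial.X 0)), hz]
        simp [pow_succ, mul_assoc]
      · simp only [Fin.zero_eta, Fin.mk_one] at hz ⊢
        rw [mul_comm (α (MvPolynomial.X 0)) (α (MvPolynomial.X 1)), hz]
        simp [hC, pow_succ, mul_assoc]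
    have hterm : ∀ j, α (MvPolynomial.C (P.coeff (D + (j + 1))) * (MvPolynomial.X 0 ^ (j + 1) +
        MvPolynomial.C ε * MvPolynomial.X 1 ^ (j + 1))) * α (MvPolynomial.X n) =
        α (MvPolynomial.C (P.coeff (D + (j + 1)))) * ((δ n : A) * α (MvPolynomial.X n) ^ (j + 2)) := fun j => by
      rw [map_mul, mul_assoc, hsum]
    rw [Finset.sum_congr rfl fun j _ => hterm j,
      ← Finset.add_sum_erase _ _ (Finset.mem_range.2 (show r - 1 < D by omega))] at h1
    have hrest : α (MvPolynomial.X n) ^ (r + 2) ∣ ∑ j ∈ (Finset.range D).erase (r - 1),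
        α (MvPolynomial.C (P.coeff (D + (j + 1)))) * ((δ n : A) * α (MvPolynomial.X n) ^ (j + 2)) := by
      refine Finset.dvd_sum fun j hj => ?_
      rcases Nat.lt_or_ge (j + 1) r with hj' | hj'
      · rw [hA _ (hlow _ (by omega) hj'), zero_mul]; exact dvd_zero _
      · refine Dvd.dvd.mul_left (Dvd.dvd.mul_left (pow_dvd_pow _ ?_) _) _
        have := (Finset.mem_erase.1 hj).1
        omega
    obtain ⟨y, hy⟩ := hrest
    rw [hy, show r - 1 + 1 = r by omega, show r - 1 + 2 = r + 1 by omega,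
      show α (MvPolynomial.X n) ^ (r + 2) = α (MvPolynomial.X n) ^ (r + 1) * α (MvPolynomial.X n) by
        rw [← pow_succ]] at h1
    have hu : IsUnit (α (MvPolynomial.C (P.coeff (D + r))) * (δ n : A) + α (MvPolynomial.X n) * y) := by
      refine IsLocalRing.notMem_maximalIdeal.1 fun hmm => ?_
      have h2 : α (MvPolynomial.C (P.coeff (D + r))) * (δ n : A) ∈ IsLocalRing.maximalIdeal A := by
        simpa using sub_mem hmm (Ideal.mul_mem_right y _ (hmemA n))
      have h3 : IsUnit (α (MvPolynomial.C (P.coeff (D + r))) * (δ n : A)) := by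
        refine IsUnit.mul ?_ (by
          refine (Int.isUnit_iff.2 hδ).map (Int.castRingHom A))
        obtain ⟨a, b, hab⟩ := (Nat.prime_iff_prime_int.1 (Fact.out : p.Prime)).coprime_iff_not_dvd.2 hra
        refine IsUnit.of_mul_eq_one (α (MvPolynomial.C b)) ?_
        rw [← map_mul, ← map_mul, show P.coeff (D + r) * b = 1 - a * p by linear_combination hab, map_sub, map_sub,
          hA (a * p) (dvd_mul_left _ _), sub_zero, map_one, map_one]
      exact h2 h3
    refine hu.mul_right_eq_zero.1 ?_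
    linear_combination h1
  have hsoc : ∀ n, ∀ x ∈ IsLocalRing.maximalIdeal A, x * α (MvPolynomial.X n) ^ r = 0 := by
    intro n x hx
    obtain ⟨x, rfl⟩ := Ideal.Quotient.mk_surjective x
    have hxm : x ∈ IsLocalRing.maximalIdeal (Localization.AtPrime m) := by
      rw [IsLocalRing.mem_maximalIdeal] at hx ⊢
      exact fun hu => hx (hu.map _)
    rw [← IsLocalization.AtPrime.map_eq_maximalIdeal m (Localization.AtPrime m)] at hxm
    have hsub : (m.map (algebraMap _ (Localization.AtPrime m))).map (Ideal.Quotient.mk (Ideal.span {(p : (Localization.AtPrime m))})) ≤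
        (⊥ : Ideal A).colon {α (MvPolynomial.X n) ^ r} := by
      rw [Ideal.map_map, Ideal.map_le_iff_le_comap]
      intro z hz
      obtain ⟨g, rfl⟩ := hsurj z
      rw [Ideal.mem_comap, Submodule.mem_colon_singleton, Submodule.mem_bot, smul_eq_mul]
      show α g * _ = 0
      obtain ⟨a, b, hxy⟩ := exists_sub_constantCoeff g
      have hg0 : (p : ℤ) ∣ MvPolynomial.constantCoeff g := by
        by_contra hnd
        obtain ⟨a', b', hab⟩ := (Nat.prime_iff_prime_int.1 (Fact.out : p.Prime)).coprime_iff_not_dvd.2 hnd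
        have h1 : ψ 0 (f g) ∈ IsLocalRing.maximalIdeal T := hz
        rw [hψ] at h1
        have h2 : ((MvPolynomial.constantCoeff g : ℤ) : T) ∈ IsLocalRing.maximalIdeal T := by
          simpa using sub_mem h1 (hmax 0 g)
        refine (IsLocalRing.maximalIdeal.isMaximal T).ne_top ((Ideal.eq_top_iff_one _).2 ?_)
        have h3 : ((a' * (p : ℤ) + b' * MvPolynomial.constantCoeff g : ℤ) : T) = (b' : T) * ((MvPolynomial.constantCoeff g : ℤ) : T) := by
          rw [Int.cast_add, hZ _ (dvd_mul_left _ _), zero_add]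
          exact map_mul (Int.castRingHom T) _ _
        rw [hab, Int.cast_one] at h3
        rw [h3]
        exact Ideal.mul_mem_left _ _ h2
      rw [hxy, map_add, map_add, map_mul, map_mul, hA _ hg0, add_zero, add_mul, mul_assoc, mul_assoc]
      have e1 : α (MvPolynomial.X 0) * α (MvPolynomial.X n) ^ r = 0 := by
        rcases (show n = 0 ∨ n = 1 by fin_cases n <;> simp) with rfl | rfl
        · rw [← pow_succ']; exact hpow 0 1 (by simp)
        · obtain ⟨k, hk⟩ := Nat.exists_eq_succ_of_ne_zero (show r ≠ 0 by omega)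
          rw [hk, pow_succ', ← mul_assoc]; exact mul_eq_zero_of_left hαF _
      have e2 : α (MvPolynomial.X 1) * α (MvPolynomial.X n) ^ r = 0 := by
        rcases (show n = 0 ∨ n = 1 by fin_cases n <;> simp) with rfl | rfl
        · obtain ⟨k, hk⟩ := Nat.exists_eq_succ_of_ne_zero (show r ≠ 0 by omega)
          rw [hk, pow_succ', ← mul_assoc, mul_comm (α (MvPolynomial.X 1))]; exact mul_eq_zero_of_left hαF _
        · rw [← pow_succ']; exact hpow 1 0 (by simp)
      rw [e1, e2, mul_zero, mul_zero, add_zero]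
    have := hsub (Ideal.mem_map_of_mem _ hxm)
    rwa [Submodule.mem_colon_singleton, Submodule.mem_bot, smul_eq_mul] at this
  let ω : Fin 2 → (A →+* T) := fun n => Ideal.Quotient.lift _ (χ n) fun z hz => by
    obtain ⟨c, rfl⟩ := Ideal.mem_span_singleton'.1 hz
    rw [map_mul, map_natCast, show ((p : ℕ) : T) = ((p : ℤ) : T) by push_cast; rfl, hZ _ dvd_rfl, mul_zero]
  have hω : ∀ n x, ω n (α x) = axis p r n x := fun n x => hχ n x
  have hne : α (MvPolynomial.X 0) ^ r ≠ 0 := fun h0 => ht (by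
    have := congrArg (ω 0) h0
    rwa [map_pow, hω, map_zero, hax, if_pos rfl] at this)
  obtain ⟨-, huniq⟩ := LC.socle_of_gorenstein hne (hsoc 0)
  obtain ⟨d, hd⟩ := huniq _ (hsoc 1)
  have := congrArg (ω 1) hd
  rw [map_pow, map_mul, map_pow, hω, hω, hax, hax, if_pos rfl, if_neg (by simp), zero_pow (by omega), mul_zero]
    at this
  exact ht this

theorem ordinary_of_gorenstein (hf : Family π q D) (hs : s ^ 2 = q) (hq : q = (p : ℤ) ^ e) (he : 0 < e)
    (hdeg : ∀ i, (minpoly ℤ (π i)).natDegree ≠ 1) {h : R₂}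
    (hh : X 0 ^ D * h - Polynomial.aeval (X 0 : R₂) (∏ i, minpoly ℤ (π i)) ∈ Ideal.span {fvq q})
    (hG : LocCoh.IsGorensteinRing (evS π q s).range) :
    ¬ (p : ℤ) ∣ (∏ i, minpoly ℤ (π i)).coeff D := by
  refine ordinary_aux hf hs hq he hdeg hh (evS π q s).rangeRestrict.toRingHom
    (AlgHom.rangeRestrict_surjective _) ?_ ?_ hG
  · rw [← ker_evS hf hs hdeg hh]
    ext x
    simp [Subtype.ext_iff]
  · rintro ⟨⟨x, y⟩, hx⟩ ⟨⟨x', y'⟩, hx'⟩ h0
    have h1 : ((p : ((i : ι) → K i) × ℚ)) * (x, y) = ((p : ((i : ι) → K i) × ℚ)) * (x', y') := congrArg Subtype.val h0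
    refine Subtype.ext (Prod.ext (funext fun i => ?_) ?_)
    · have := congrFun (congrArg Prod.fst h1) i
      simpa [(Fact.out : p.Prime).ne_zero] using this
    · have := congrArg Prod.snd h1
      simpa [(Fact.out : p.Prime).ne_zero] using this

end Groth.Agent.WeilNumLib
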