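import Mathlib.RingTheory.PicardGroup
import Mathlib.RingTheory.Ideal.MinimalPrime.Noetherian
import Mathlib.RingTheory.Nilpotent.Lemmas
import Mathlib.LinearAlgebra.Dual.Lemmas

/-!
Lifting invertible modules along a surjection which is an isomorphism off finitely many closed points.
-/

set_option autoImplicit false

universe u

open TensorProduct

namespace Groth.Agent.WeilNumLib

/-- An ideal with functionals whose values generate the unit ideal is invertible. -/
theorem invertible_of_sum_eq_one {R : Type u} [CommRing R] (J : Ideal R) {ι : Type*} [Fintype ι]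
    (G : ι → Module.Dual R J) (Y : ι → J) (h : ∑ k, G k (Y k) = 1) : Module.Invertible R J := by
  have swap : ∀ (φ ψ : Module.Dual R J) (y z : J), φ z * ψ y = φ y * ψ z := fun φ ψ y z => by
    have e : ∀ (θ : Module.Dual R J) (a b : J), (a : R) * θ b = (b : R) * θ a := fun θ a b => by
      rw [← smul_eq_mul, ← smul_eq_mul, ← map_smul, ← map_smul]
      exact congrArg θ (Subtype.ext (mul_comm _ _))
    calc φ z * ψ y = φ (ψ y • z) := by rw [map_smul, smul_eq_mul, mul_comm]
      _ = φ (ψ z • y) := congrArg φ (Subtype.ext (by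
          show ψ y * (z : R) = ψ z * (y : R)
          rw [mul_comm, e ψ z y, mul_comm]))
      _ = φ y * ψ z := by rw [map_smul, smul_eq_mul, mul_comm]
  have hinv : ∀ t : Module.Dual R J ⊗[R] J, (∑ k, contractLeft R J t • (G k ⊗ₜ[R] Y k)) = t := by
    intro t
    induction t using TensorProduct.induction_on with
    | zero => simp
    | add a b ha hb => simp only [map_add, add_smul, Finset.sum_add_distrib, ha, hb]
    | tmul φ y =>
      rw [contractLeft_apply]
      have hy : y = ∑ k, G k y • Y k := Subtype.ext (by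
        rw [AddSubmonoidClass.coe_finset_sum]
        calc (y : R) = ∑ k, (y : R) * G k (Y k) := by rw [← Finset.mul_sum, h, mul_one]
          _ = ∑ k, ((G k y • Y k : J) : R) := Finset.sum_congr rfl fun k _ => by
              show (y : R) * G k (Y k) = G k y * (Y k : R)
              rw [← smul_eq_mul, ← map_smul, show ((y : R) • Y k : J) = (Y k : R) • y from
                Subtype.ext (mul_comm _ _), map_smul, smul_eq_mul, mul_comm])
      conv_rhs => rw [hy, tmul_sum]
      refine Finset.sum_congr rfl fun k _ => ?_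
      rw [tmul_smul, smul_tmul', smul_tmul']
      refine congrArg (· ⊗ₜ[R] Y k) (LinearMap.ext fun z => ?_)
      show φ y * G k z = G k y * φ z
      rw [← swap φ (G k) y z, mul_comm]
  refine ⟨⟨fun a b hab => ?_, fun r => ⟨∑ k, r • (G k ⊗ₜ[R] Y k), ?_⟩⟩⟩
  · rw [← hinv a, ← hinv b, hab]
  · rw [map_sum]
    simp only [map_smul, contractLeft_apply, smul_eq_mul]
    rw [← Finset.mul_sum, h, mul_one]

/-- Over a reduced Noetherian ring an invertible module is isomorphic to an ideal prime to a given ideal with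
finitely many maximal ideals above it. -/
theorem exists_coprime_ideal {S : Type u} [CommRing S] [IsReduced S] [IsNoetherianRing S] (b : Ideal S)
    (hb : Finite (MaximalSpectrum (S ⧸ b))) (M : Type u) [AddCommGroup M] [Module S M] [Module.Invertible S M] :
    ∃ J : Ideal S, Nonempty (M ≃ₗ[S] J) ∧ J ⊔ b = ⊤ := by
  classical
  choose m hm hqm using fun q : minimalPrimes S => Ideal.exists_le_maximal q.1 q.2.1.1.ne_top
  haveI : Finite (minimalPrimes S) := (minimalPrimes.finite_of_isNoetherianRing S).to_subtype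
  let c := b ⊓ ⨅ q, m q
  haveI : Finite (MaximalSpectrum (S ⧸ c)) := by
    have hF : ((fun x : MaximalSpectrum (S ⧸ b) => x.asIdeal.comap (Ideal.Quotient.mk b)) '' Set.univ ∪
        Set.range m).Finite := ((Set.toFinite _).image _).union (Set.finite_range m)
    haveI := hF.to_subtype
    refine Finite.of_injective (fun x : MaximalSpectrum (S ⧸ c) => (⟨x.asIdeal.comap (Ideal.Quotient.mk c), ?_⟩ :
      ↥((fun x : MaximalSpectrum (S ⧸ b) => x.asIdeal.comap (Ideal.Quotient.mk b)) '' Set.univ ∪ Set.range m)))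
      fun x y hxy => ?_
    · haveI := x.isMaximal
      haveI hP : (x.asIdeal.comap (Ideal.Quotient.mk c)).IsMaximal :=
        Ideal.comap_isMaximal_of_surjective _ Ideal.Quotient.mk_surjective
      have hc : c ≤ x.asIdeal.comap (Ideal.Quotient.mk c) := fun z hz => by
        rw [Ideal.mem_comap, Ideal.Quotient.eq_zero_iff_mem.2 hz]; exact zero_mem _
      cases nonempty_fintype (minimalPrimes S)
      rcases hP.isPrime.inf_le.1 hc with h | h
      · left
        have hk : RingHom.ker (Ideal.Quotient.mk b) ≤ x.asIdeal.comap (Ideal.Quotient.mk c) := by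
          rw [Ideal.mk_ker]; exact h
        refine ⟨⟨(x.asIdeal.comap (Ideal.Quotient.mk c)).map (Ideal.Quotient.mk b), ?_⟩, trivial, ?_⟩
        · exact (Ideal.map_eq_top_or_isMaximal_of_surjective _ Ideal.Quotient.mk_surjective hP).resolve_left
            fun htop => hP.ne_top (by
              rw [← sup_eq_left.2 hk, RingHom.ker_eq_comap_bot, ← Ideal.comap_map_of_surjective _
                Ideal.Quotient.mk_surjective, htop, Ideal.comap_top])
        · show Ideal.comap _ (Ideal.map _ _) = _
          rw [Ideal.comap_map_of_surjective _ Ideal.Quotient.mk_surjective, ← RingHom.ker_eq_comap_bot,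
            sup_eq_left.2 hk]
      · right
        rw [← Finset.inf_univ_eq_iInf] at h
        obtain ⟨q, -, hq⟩ := (Ideal.IsPrime.inf_le' hP.isPrime).1 h
        exact ⟨q, (hm q).eq_of_le hP.ne_top hq⟩
    · have h := congrArg Subtype.val hxy
      exact MaximalSpectrum.ext (Ideal.comap_injective_of_surjective _ Ideal.Quotient.mk_surjective h)
  obtain ⟨e⟩ := Module.Invertible.free_iff_linearEquiv.mp
    (inferInstance : Module.Free (S ⧸ c) ((S ⧸ c) ⊗[S] M))
  let g : M →ₗ[S] S ⧸ c := (e.toLinearMap.restrictScalars S).comp ((TensorProduct.mk S (S ⧸ c) M) 1)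
  obtain ⟨f, hf⟩ := Module.projective_lifting_property (Submodule.mkQ c) g (Submodule.mkQ_surjective c)
  have htop : LinearMap.range f ⊔ c = ⊤ := by
    rw [Ideal.eq_top_iff_one]
    obtain ⟨y, hy⟩ : ∃ y, g y = 1 := by
      obtain ⟨z, hz⟩ := e.surjective 1
      have hs : Function.Surjective ((TensorProduct.mk S (S ⧸ c) M) 1) :=
        TensorProduct.mk_surjective S M (S ⧸ c) Ideal.Quotient.mk_surjective
      obtain ⟨y, rfl⟩ := hs z
      exact ⟨y, hz⟩
    have h1 : Submodule.mkQ c (f y) = 1 := (LinearMap.congr_fun hf y).trans hy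
    rw [show (1 : S) = f y + (1 - f y) by ring]
    refine Submodule.add_mem_sup (LinearMap.mem_range_self f y) ?_
    rw [← Ideal.Quotient.eq_zero_iff_mem, map_sub, map_one, sub_eq_zero]
    exact h1.symm
  have hcm : ∀ q, ¬ LinearMap.range f ≤ m q := fun q h => (hm q).ne_top (top_le_iff.1 (htop ▸
    sup_le h (inf_le_right.trans (iInf_le _ q))))
  refine ⟨LinearMap.range f, ⟨LinearEquiv.ofInjective f ((injective_iff_map_eq_zero f).2 fun x hx => ?_)⟩,
    top_le_iff.1 (htop ▸ sup_le_sup_left inf_le_left _)⟩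
  refine (Module.forall_dual_apply_eq_zero_iff S x).1 fun φ => ?_
  have hzero : ∀ y, φ x * f y = 0 := fun y => by
    have := congrArg (TensorProduct.lift ((LinearMap.mul S S).compl₁₂ φ f))
      (Module.Invertible.tmul_comm (R := S) (m₁ := x) (m₂ := y))
    simp only [TensorProduct.lift.tmul, LinearMap.compl₁₂_apply, LinearMap.mul_apply'] at this
    rw [this, hx, mul_zero]
  refine IsNilpotent.eq_zero (nilpotent_iff_mem_prime.2 fun P hP => ?_)
  obtain ⟨q, hq, hqP⟩ := Ideal.exists_minimalPrimes_le (bot_le : (⊥ : Ideal S) ≤ P)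
  refine hqP (by_contra fun hne => hcm ⟨q, hq⟩ ?_)
  rintro _ ⟨y, rfl⟩
  exact hqm ⟨q, hq⟩ ((hq.1.1.mem_or_mem ((hzero y) ▸ q.zero_mem)).resolve_left hne)

/-- Picard groups lift along `R → S` when an ideal annihilating the kernel cuts out finitely many points of `S`. -/
theorem pic_surjective {R S : Type u} [CommRing R] [CommRing S] [IsReduced S] [IsNoetherianRing S]
    (π : R →+* S) (hπ : Function.Surjective π) (I' : Ideal R) (hI : I' * RingHom.ker π = ⊥)
    (hfin : Finite (MaximalSpectrum (S ⧸ I'.map π))) : Function.Surjective (CommRing.Pic.mapRingHom π) := by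
  intro M
  obtain ⟨J, ⟨eJ⟩, hJ⟩ := exists_coprime_ideal (I'.map π) hfin M
  letI := π.toAlgebra
  let J' := J.comap π
  have hcop : J' ⊔ I' = ⊤ := by
    rw [Ideal.eq_top_iff_one] at hJ ⊢
    obtain ⟨a, ha, b, hb, hab⟩ := Submodule.mem_sup.1 hJ
    obtain ⟨b', hb', rfl⟩ := (Ideal.mem_map_iff_of_surjective π hπ).1 hb
    refine Submodule.mem_sup.2 ⟨1 - b', ?_, b', hb', sub_add_cancel _ _⟩
    rw [Ideal.mem_comap, map_sub, map_one, ← hab, add_sub_cancel_right]
    exact ha
  obtain ⟨j0, hj0, i0, hi0, h1⟩ := Submodule.mem_sup.1 ((Ideal.eq_top_iff_one _).1 hcop)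
  haveI : Module.Invertible S J := Module.Invertible.congr eJ
  obtain ⟨t, ht⟩ := (Module.Invertible.bijective (R := S) (M := J)).2 1
  obtain ⟨s, hs⟩ := TensorProduct.exists_finset t
  rw [hs, map_sum] at ht
  choose σ hσ using hπ
  have hkill : ∀ a b : R, π a = π b → i0 * a = i0 * b := fun a b h => by
    rw [← sub_eq_zero, ← mul_sub, ← Submodule.mem_bot R, ← hI]
    exact Ideal.mul_mem_mul hi0 (by rw [RingHom.mem_ker, map_sub, h, sub_self])
  let G : Option ↥s → Module.Dual R J' := fun k => match k with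
    | none => J'.subtype
    | some k =>
      { toFun := fun y => i0 * σ (k.1.1 ⟨π y.1, y.2⟩)
        map_add' := fun y z => by
          rw [← mul_add]
          refine hkill _ _ ?_
          rw [map_add, hσ, hσ, hσ, ← map_add]
          exact congrArg k.1.1 (Subtype.ext (map_add π _ _))
        map_smul' := fun r y => by
          show i0 * _ = r * (i0 * _)
          rw [mul_left_comm]
          refine hkill _ _ ?_
          rw [map_mul, hσ, hσ, ← smul_eq_mul, ← map_smul]
          exact congrArg k.1.1 (Subtype.ext (map_mul π _ _)) }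
  let Y : Option ↥s → J' := fun k => match k with
    | none => ⟨j0, hj0⟩
    | some k => ⟨σ k.1.2.1, by rw [Ideal.mem_comap, hσ]; exact k.1.2.2⟩
  haveI : Module.Invertible R J' := invertible_of_sum_eq_one J' G Y (by
    rw [Fintype.sum_option, ← h1]
    refine congrArg₂ (· + ·) rfl ?_
    show ∑ k : ↥s, i0 * σ (k.1.1 ⟨π (σ k.1.2.1), _⟩) = i0
    rw [← Finset.mul_sum]
    conv_rhs => rw [← mul_one i0]
    refine hkill _ _ ?_
    rw [map_sum, map_one, ← ht, ← Finset.sum_coe_sort s]
    refine Finset.sum_congr rfl fun k _ => ?_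
    rw [hσ, contractLeft_apply]
    exact congrArg k.1.1 (Subtype.ext (hσ _)))
  refine ⟨CommRing.Pic.mk R J', ?_⟩
  show CommRing.Pic.mapAlgebra R S (CommRing.Pic.mk R J') = M
  rw [CommRing.Pic.mapAlgebra_apply, CommRing.Pic.mk_eq_iff]
  let r : J' →ₗ[R] J :=
    { toFun := fun y => ⟨π y.1, y.2⟩
      map_add' := fun y z => Subtype.ext (map_add π _ _)
      map_smul' := fun a y => Subtype.ext (map_mul π _ _) }
  let l : S ⊗[R] ↥J' →ₗ[S] J := LinearMap.liftBaseChange S r
  have hl : Function.Surjective l := fun z => ⟨1 ⊗ₜ ⟨σ z.1, by rw [Ideal.mem_comap, hσ]; exact z.2⟩,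
    Subtype.ext (by simp [l, r, hσ])⟩
  exact ⟨(TensorProduct.AlgebraTensorModule.congr (.refl ..) (CommRing.Pic.mk.linearEquiv ..)) ≪≫ₗ
    LinearEquiv.ofBijective l (Module.Invertible.bijective_of_surjective hl) ≪≫ₗ eJ.symm⟩

end Groth.Agent.WeilNumLib
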